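import Cfsg.Agent.Lib.AbelianCent.Fpf
import Cfsg.Agent.Lib.Coprime.Generation
import Cfsg.Agent.Lib.Coprime.Sylow
import Mathlib.GroupTheory.PGroup

/-!
# A noncyclic group of order `q²` with abelian centralisers: basic facts

`IsSetting A G q`: `A` is elementary abelian of order `q²` acting on `G` (inside an ambient group),
`q ∤ #G`, and the fixed points `C_G(a)` are abelian. `IsLine A q L`: `L ≤ A` of order `q`.
`fix H L = H ⊓ C(L)`.
-/

namespace Cfsg.Agent.AbelianCent

open Subgroup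
open scoped Pointwise commutatorElement

variable {X : Type*} [Group X] {A G : Subgroup X} {q : ℕ}

/-- `A` (elementary abelian of order `q²`) acts on `G` with abelian fixed points. -/
structure IsSetting (A G : Subgroup X) (q : ℕ) : Prop where
  prime : q.Prime
  card_A : Nat.card A = q ^ 2
  exp : ∀ a ∈ A, a ^ q = 1
  inv : A ≤ normalizer (G : Set X)
  cop : ¬ q ∣ Nat.card G
  cent : ∀ a ∈ A, a ≠ 1 → ∀ x ∈ G, ∀ y ∈ G, a * x = x * a → a * y = y * a → x * y = y * x

/-- A subgroup of order `q` of `A`. -/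
def IsLine (A : Subgroup X) (q : ℕ) (L : Subgroup X) : Prop := L ≤ A ∧ Nat.card L = q

/-- The fixed points of `L` in `H`. -/
abbrev fix (H L : Subgroup X) : Subgroup X := H ⊓ centralizer (L : Set X)

theorem fix_mono {H K L : Subgroup X} (h : H ≤ K) : fix H L ≤ fix K L := inf_le_inf_right _ h

theorem IsSetting.isMulCommutative (hS : IsSetting A G q) : IsMulCommutative A := by
  have := Fact.mk hS.prime
  exact ⟨⟨IsPGroup.commutative_of_card_eq_prime_sq hS.card_A⟩⟩

theorem IsSetting.isSolvable_A (hS : IsSetting A G q) {L : Subgroup X} (hL : L ≤ A) :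
    Group.IsSolvable L := by
  have := hS.isMulCommutative
  refine Group.isSolvable_of_comm fun x y => Subtype.ext ?_
  exact congrArg (fun z : A => (z : X))
    (this.is_comm.comm ⟨(x : X), hL x.2⟩ ⟨(y : X), hL y.2⟩)

theorem IsSetting.le_centralizer_A (hS : IsSetting A G q) {L : Subgroup X} (hL : L ≤ A) :
    A ≤ centralizer (L : Set X) := fun _ ha => mem_centralizer_iff.2 fun l hl =>
  congrArg Subtype.val (hS.isMulCommutative.is_comm.comm ⟨l, hL hl⟩ ⟨_, ha⟩)

theorem IsSetting.inv_fix (hS : IsSetting A G q) {H L : Subgroup X}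
    (hH : A ≤ normalizer (H : Set X)) (hL : L ≤ A) : A ≤ normalizer (fix H L : Set X) :=
  Coprime.le_normalizer_inf_of_le hH
    (le_normalizer_centralizer' ((hS.le_centralizer_A hL).trans (centralizer_le_normalizer _)))

theorem IsSetting.not_cyclic (hS : IsSetting A G q) : ¬ IsCyclic A := by
  intro h
  obtain ⟨g, hg⟩ := h.exists_ofOrder_eq_natCard
  have h1 : orderOf g ∣ q := orderOf_dvd_of_pow_eq_one (Subtype.ext (hS.exp g g.2))
  rw [hg, hS.card_A] at h1
  have h2 := Nat.le_of_dvd hS.prime.pos h1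
  have h3 := hS.prime.two_le
  nlinarith

theorem IsSetting.isLine_zpowers (hS : IsSetting A G q) {a : X} (ha : a ∈ A) (h1 : a ≠ 1) :
    IsLine A q (zpowers a) := by
  refine ⟨zpowers_le.2 ha, ?_⟩
  rw [Nat.card_zpowers]
  have := Fact.mk hS.prime
  exact orderOf_eq_prime (hS.exp a ha) h1

theorem IsLine.ne_bot (hS : IsSetting A G q) {L : Subgroup X} (hL : IsLine A q L) : L ≠ ⊥ := by
  rintro rfl
  have h := hL.2
  rw [card_bot] at h
  exact hS.prime.one_lt.ne h

theorem IsLine.eq_zpowers (hS : IsSetting A G q) {L : Subgroup X} (hL : IsLine A q L) {a : X}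
    (ha : a ∈ L) (h1 : a ≠ 1) : zpowers a = L := by
  have : Finite L := Nat.finite_of_card_ne_zero (hL.2.symm ▸ hS.prime.ne_zero)
  refine eq_of_le_of_card_ge (zpowers_le.2 ha) ?_
  rw [hL.2, (hS.isLine_zpowers (hL.1 ha) h1).2]

theorem IsLine.eq_of_mem (hS : IsSetting A G q) {L M : Subgroup X} (hL : IsLine A q L)
    (hM : IsLine A q M) {a : X} (ha : a ∈ L) (haM : a ∈ M) (h1 : a ≠ 1) : L = M := by
  rw [← hL.eq_zpowers hS ha h1, hM.eq_zpowers hS haM h1]

theorem IsLine.sup_eq (hS : IsSetting A G q) [Finite X] {L M : Subgroup X} (hL : IsLine A q L)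
    (hM : IsLine A q M) (hne : L ≠ M) : L ⊔ M = A := by
  refine eq_of_le_of_card_ge (sup_le hL.1 hM.1) ?_
  have hinf : L ⊓ M = ⊥ := (eq_bot_iff_forall _).2 fun x hx => by
    by_contra h1
    exact hne (hL.eq_of_mem hS hM hx.1 hx.2 h1)
  have hn : L ≤ normalizer (M : Set X) :=
    hL.1.trans ((hS.le_centralizer_A hM.1).trans (centralizer_le_normalizer _))
  rw [Coprime.card_sup_of_le_normalizer hn hinf, hS.card_A, hL.2, hM.2, sq]

theorem IsSetting.exists_line (hS : IsSetting A G q) [Finite X] : ∃ L, IsLine A q L := by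
  have := Fact.mk hS.prime
  obtain ⟨a, ha⟩ := exists_prime_orderOf_dvd_card' (G := A) q (hS.card_A ▸ dvd_pow_self q two_ne_zero)
  refine ⟨zpowers (a : X), hS.isLine_zpowers a.2 fun h => ?_⟩
  rw [← Subgroup.orderOf_coe, h, orderOf_one] at ha
  exact hS.prime.one_lt.ne ha

theorem IsSetting.exists_line_ne (hS : IsSetting A G q) [Finite X] {L : Subgroup X}
    (hL : IsLine A q L) : ∃ M, IsLine A q M ∧ M ≠ L := by
  obtain ⟨a, ha, haL⟩ : ∃ a ∈ A, a ∉ L := by
    by_contra h
    push Not at h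
    have h1 := card_le_of_le (h : A ≤ L)
    rw [hS.card_A, hL.2] at h1
    have := hS.prime.two_le
    nlinarith
  exact ⟨zpowers a, hS.isLine_zpowers ha fun h => haL (h ▸ one_mem L),
    fun h => haL (h ▸ mem_zpowers a)⟩

/-- Any two lines are avoided by a third. -/
theorem IsSetting.exists_third (hS : IsSetting A G q) [Finite X] {L M : Subgroup X}
    (hL : IsLine A q L) (hM : IsLine A q M) : ∃ K, IsLine A q K ∧ K ≠ L ∧ K ≠ M := by
  rcases eq_or_ne L M with rfl | hne
  · obtain ⟨K, hK, hKL⟩ := hS.exists_line_ne hL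
    exact ⟨K, hK, hKL, hKL⟩
  obtain ⟨a, ha, ha1⟩ := L.ne_bot_iff_exists_ne_one.1 (hL.ne_bot hS) |> fun ⟨x, hx⟩ =>
    (⟨(x : X), x.2, fun h => hx (Subtype.ext h)⟩ : ∃ a ∈ L, a ≠ 1)
  obtain ⟨b, hb, hb1⟩ := M.ne_bot_iff_exists_ne_one.1 (hM.ne_bot hS) |> fun ⟨x, hx⟩ =>
    (⟨(x : X), x.2, fun h => hx (Subtype.ext h)⟩ : ∃ b ∈ M, b ≠ 1)
  have hbL : b ∉ L := fun h => hne (hL.eq_of_mem hS hM h hb hb1)
  have haM : a ∉ M := fun h => hne (hL.eq_of_mem hS hM ha h ha1)
  refine ⟨zpowers (a * b), hS.isLine_zpowers (mul_mem (hL.1 ha) (hM.1 hb)) fun h =>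
    haM ?_, fun h => hbL ?_, fun h => haM ?_⟩
  · rw [eq_inv_of_mul_eq_one_left h]
    exact inv_mem hb
  · have : a * b ∈ L := h ▸ mem_zpowers _
    have := L.mul_mem (L.inv_mem ha) this
    rwa [inv_mul_cancel_left] at this
  · have : a * b ∈ M := h ▸ mem_zpowers _
    have := M.mul_mem this (M.inv_mem hb)
    rwa [mul_inv_cancel_right] at this

/-- For `q = 2` there are only three lines. -/
theorem IsSetting.eq_third (hS : IsSetting A G q) [Finite X] (hq : q = 2) {L M K N : Subgroup X}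
    (hL : IsLine A q L) (hM : IsLine A q M) (hK : IsLine A q K) (hN : IsLine A q N)
    (hLM : L ≠ M) (hKL : K ≠ L) (hKM : K ≠ M) (hNL : N ≠ L) (hNM : N ≠ M) : N = K := by
  have key : ∀ {J : Subgroup X}, IsLine A q J → J ≠ L → J ≠ M →
      ∀ a ∈ L, a ≠ 1 → ∀ b ∈ M, b ≠ 1 → a * b ∈ J := by
    intro J hJ hJL hJM a ha ha1 b hb hb1
    obtain ⟨x, hx⟩ := J.ne_bot_iff_exists_ne_one.1 (hJ.ne_bot hS)
    have hx1 : (x : X) ≠ 1 := fun h => hx (Subtype.ext h)
    have hxA := hJ.1 x.2
    have hn : L ≤ normalizer (M : Set X) :=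
      hL.1.trans ((hS.le_centralizer_A hM.1).trans (centralizer_le_normalizer _))
    rw [← hL.sup_eq hS hM hLM, Coprime.mem_sup_iff_of_le_normalizer hn] at hxA
    obtain ⟨l, hl, m, hm, hlm⟩ := hxA
    have two : ∀ {P : Subgroup X}, IsLine A q P → ∀ c ∈ P, c ≠ 1 → ∀ d ∈ P, d = 1 ∨ d = c := by
      intro P hP c hc hc1 d hd
      rw [← hP.eq_zpowers hS hc hc1] at hd
      obtain ⟨i, rfl⟩ := hd
      have h2 : c ^ (2 : ℤ) = 1 := by
        rw [show (2 : ℤ) = ((2 : ℕ) : ℤ) from rfl, zpow_natCast, ← hq]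
        exact hS.exp c (hP.1 hc)
      rcases Int.even_or_odd' i with ⟨j, rfl | rfl⟩
      · left; simp only; rw [zpow_mul, h2, one_zpow]
      · right; simp only; rw [zpow_add, zpow_mul, h2, one_zpow, one_mul, zpow_one]
    rcases two hL a ha ha1 l hl with rfl | rfl
    · rw [one_mul] at hlm
      exact absurd (hJ.eq_of_mem hS hM x.2 (hlm ▸ hm) hx1) hJM
    rcases two hM b hb hb1 m hm with rfl | rfl
    · rw [mul_one] at hlm
      exact absurd (hJ.eq_of_mem hS hL x.2 (hlm ▸ hl) hx1) hJL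
    exact hlm ▸ x.2
  obtain ⟨a, ha⟩ := L.ne_bot_iff_exists_ne_one.1 (hL.ne_bot hS)
  obtain ⟨b, hb⟩ := M.ne_bot_iff_exists_ne_one.1 (hM.ne_bot hS)
  have ha1 : (a : X) ≠ 1 := fun h => ha (Subtype.ext h)
  have hb1 : (b : X) ≠ 1 := fun h => hb (Subtype.ext h)
  refine hN.eq_of_mem hS hK (key hN hNL hNM a a.2 ha1 b b.2 hb1) (key hK hKL hKM a a.2 ha1 b b.2 hb1)
    fun h => hLM (hL.eq_of_mem hS hM a.2 ?_ ha1)
  rw [eq_inv_of_mul_eq_one_left h]
  exact inv_mem b.2

theorem mem_centralizer_zpowers {a x : X} :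
    x ∈ centralizer ((zpowers a : Subgroup X) : Set X) ↔ a * x = x * a := by
  refine ⟨fun h => mem_centralizer_iff.1 h a (mem_zpowers a), fun h => mem_centralizer_iff.2 ?_⟩
  rintro _ ⟨i, rfl⟩
  exact (Commute.zpow_left h i : _)

/-- Fixed points of a line commute. -/
theorem IsSetting.fix_comm (hS : IsSetting A G q) {L : Subgroup X} (hL : IsLine A q L) {x y : X}
    (hx : x ∈ fix G L) (hy : y ∈ fix G L) : x * y = y * x := by
  obtain ⟨a, ha⟩ := L.ne_bot_iff_exists_ne_one.1 (hL.ne_bot hS)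
  exact hS.cent a (hL.1 a.2) (fun h => ha (Subtype.ext h)) x hx.1 y hy.1
    (mem_centralizer_iff.1 hx.2 a a.2) (mem_centralizer_iff.1 hy.2 a a.2)

theorem IsSetting.fix_isMulCommutative (hS : IsSetting A G q) {H L : Subgroup X} (hH : H ≤ G)
    (hL : IsLine A q L) : IsMulCommutative (fix H L) :=
  ⟨⟨fun x y => Subtype.ext (hS.fix_comm hL (fix_mono hH x.2) (fix_mono hH y.2))⟩⟩

theorem IsSetting.fix_le_centralizer (hS : IsSetting A G q) {H K L : Subgroup X} (hH : H ≤ G)
    (hK : K ≤ G) (hL : IsLine A q L) : fix H L ≤ centralizer (fix K L : Set X) := fun _ hx =>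
  mem_centralizer_iff.2 fun _ hy => hS.fix_comm hL (fix_mono hK hy) (fix_mono hH hx)

theorem IsSetting.mono (hS : IsSetting A G q) [Finite X] {H : Subgroup X} (hH : H ≤ G)
    (hA : A ≤ normalizer (H : Set X)) : IsSetting A H q where
  prime := hS.prime
  card_A := hS.card_A
  exp := hS.exp
  inv := hA
  cop h := hS.cop (h.trans (card_dvd_of_le hH))
  cent a ha h1 x hx y hy := hS.cent a ha h1 x (hH hx) y (hH hy)

theorem IsSetting.coprime (hS : IsSetting A G q) [Finite X] {L H : Subgroup X} (hL : L ≤ A)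
    (hH : H ≤ G) : (Nat.card L).Coprime (Nat.card H) := by
  refine Nat.Coprime.coprime_dvd_left (card_dvd_of_le hL) ?_
  rw [hS.card_A]
  exact (((hS.prime.coprime_iff_not_dvd).2 hS.cop).pow_left 2).coprime_dvd_right (card_dvd_of_le hH)

/-- Generation by fixed points of lines. -/
theorem IsSetting.le_of_fix_le (hS : IsSetting A G q) [Finite X] {H S : Subgroup X} (hH : H ≤ G)
    (hA : A ≤ normalizer (H : Set X)) (h : ∀ L, IsLine A q L → fix H L ≤ S) : H ≤ S := by
  have := hS.isMulCommutative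
  have := Coprime.eq_of_forall_centralizer_le (S := H ⊓ S) hS.not_cyclic hA (hS.coprime le_rfl hH)
    inf_le_left fun a ha h1 x hx => ⟨hx.1, h _ (hS.isLine_zpowers ha h1)
      ⟨hx.1, mem_centralizer_zpowers.2 (mem_centralizer_singleton_iff.1 hx.2).symm⟩⟩
  exact inf_eq_left.1 this

theorem IsSetting.fix_fix (hS : IsSetting A G q) [Finite X] {H L M : Subgroup X}
    (hL : IsLine A q L) (hM : IsLine A q M) (hne : L ≠ M) : fix (fix H L) M ≤ fix H A := by
  intro x hx
  refine ⟨hx.1.1, ?_⟩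
  rw [← hL.sup_eq hS hM hne]
  refine mem_centralizer_iff.2 fun y hy => ?_
  have hle : L ⊔ M ≤ centralizer ({x} : Set X) := sup_le
    (fun l hl => mem_centralizer_singleton_iff.2 (mem_centralizer_iff.1 hx.1.2 l hl))
    (fun m hm => mem_centralizer_singleton_iff.2 (mem_centralizer_iff.1 hx.2 m hm))
  exact mem_centralizer_singleton_iff.1 (hle hy)

theorem IsSetting.eq_one_of_commute (hS : IsSetting A G q) [Finite X] (hA : fix G A = ⊥)
    {U L M : Subgroup X} (hU : U ≤ fix G L) (hL : IsLine A q L) (hM : IsLine A q M) (hne : L ≠ M) :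
    ∀ l ∈ M, l ≠ 1 → ∀ u ∈ U, l * u = u * l → u = 1 := by
  intro l hl hl1 u hu hlu
  refine mem_bot.1 (hA ▸ hS.fix_fix hL hM hne (H := G) ⟨hU hu, ?_⟩)
  rw [← hM.eq_zpowers hS hl hl1]
  exact mem_centralizer_zpowers.2 hlu

/-- If a line `M` has no fixed points on the `p`-group `V`, then the fixed points of every other line
in a `p'`-group normalising `V` centralise `V`. -/
theorem IsSetting.fix_le_centralizer_of_fix_eq_bot (hS : IsSetting A G q) [Finite X]
    (hA : fix G A = ⊥) {p : ℕ} [Fact p.Prime] {U V L M : Subgroup X} (hUG : U ≤ G)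
    (hUA : A ≤ normalizer (U : Set X)) (hVG : V ≤ G) (hVA : A ≤ normalizer (V : Set X))
    (hVp : IsPGroup p V) (hUV : U ≤ normalizer (V : Set X))
    (hcop : (Nat.card U).Coprime (Nat.card V)) (hL : IsLine A q L) (hM : IsLine A q M)
    (hne : L ≠ M) (hV : fix V M = ⊥) : fix U L ≤ centralizer (V : Set X) :=
  le_centralizer_of_fpf_pgroup hVp (inf_le_left.trans hUV) (hM.1.trans hVA)
    (hM.1.trans (hS.inv_fix hUA hL.1)) (hcop.coprime_dvd_left (card_dvd_of_le inf_le_left))
    (hS.isSolvable_A hM.1) (hS.coprime hM.1 (inf_le_left.trans hUG)) (hS.coprime hM.1 hVG)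
    (hS.eq_one_of_commute hA (fix_mono hUG) hL hM hne) hV

/-- Two lines without fixed points on `V`: every invariant `p'`-group normalising `V` centralises it. -/
theorem IsSetting.le_centralizer_of_two (hS : IsSetting A G q) [Finite X] (hA : fix G A = ⊥)
    {p : ℕ} [Fact p.Prime] {U V L M : Subgroup X} (hUG : U ≤ G)
    (hUA : A ≤ normalizer (U : Set X)) (hVG : V ≤ G) (hVA : A ≤ normalizer (V : Set X))
    (hVp : IsPGroup p V) (hUV : U ≤ normalizer (V : Set X))
    (hcop : (Nat.card U).Coprime (Nat.card V)) (hL : IsLine A q L) (hM : IsLine A q M)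
    (hne : L ≠ M) (h1 : fix V L = ⊥) (h2 : fix V M = ⊥) : U ≤ centralizer (V : Set X) := by
  refine hS.le_of_fix_le hUG hUA fun K hK => ?_
  by_cases hKM : K = M
  · exact hS.fix_le_centralizer_of_fix_eq_bot hA hUG hUA hVG hVA hVp hUV hcop hK hL
      (hKM ▸ hne.symm) h1
  · exact hS.fix_le_centralizer_of_fix_eq_bot hA hUG hUA hVG hVA hVp hUV hcop hK hM hKM h2

/-- A nontrivial action leaves at most one line without fixed points. -/
theorem IsSetting.exists_exceptional (hS : IsSetting A G q) [Finite X] (hA : fix G A = ⊥)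
    {p : ℕ} [Fact p.Prime] {U V : Subgroup X} (hUG : U ≤ G)
    (hUA : A ≤ normalizer (U : Set X)) (hVG : V ≤ G) (hVA : A ≤ normalizer (V : Set X))
    (hVp : IsPGroup p V) (hUV : U ≤ normalizer (V : Set X))
    (hcop : (Nat.card U).Coprime (Nat.card V)) (hne : ¬ U ≤ centralizer (V : Set X)) :
    ∃ D, IsLine A q D ∧ ∀ L, IsLine A q L → L ≠ D → fix V L ≠ ⊥ := by
  by_cases h : ∃ D, IsLine A q D ∧ fix V D = ⊥
  · obtain ⟨D, hD, hVD⟩ := h
    exact ⟨D, hD, fun L hL hLD h => hne (hS.le_centralizer_of_two hA hUG hUA hVG hVA hVp hUV hcop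
      hL hD hLD h hVD)⟩
  · obtain ⟨D, hD⟩ := hS.exists_line
    exact ⟨D, hD, fun L hL _ hL' => h ⟨L, hL, hL'⟩⟩

theorem IsSetting.subgroupOf (hS : IsSetting A G q) {Y : Subgroup X} (hAY : A ≤ Y) (hGY : G ≤ Y) :
    IsSetting (A.subgroupOf Y) (G.subgroupOf Y) q where
  prime := hS.prime
  card_A := (Coprime.card_subgroupOf hAY).trans hS.card_A
  exp a ha := Subtype.ext (hS.exp a ha)
  inv a ha := mem_normalizer_iff.2 fun z => mem_normalizer_iff.1 (hS.inv ha) z
  cop h := hS.cop (Coprime.card_subgroupOf hGY ▸ h)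
  cent a ha h1 x hx y hy e1 e2 := Subtype.ext (hS.cent a ha (fun h => h1 (Subtype.ext h)) x hx y hy
    (congrArg Subtype.val e1) (congrArg Subtype.val e2))

theorem IsSetting.map (hS : IsSetting A G q) [Finite X] {X' : Type*} [Group X'] (f : X →* X')
    (hf : A ⊓ f.ker = ⊥) : IsSetting (A.map f) (G.map f) q where
  prime := hS.prime
  card_A := by
    have hinj : Function.Injective (f.subgroupMap A) := by
      rw [← MonoidHom.ker_eq_bot_iff, eq_bot_iff]
      intro a ha
      rw [mem_bot]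
      exact Subtype.ext (mem_bot.1 (hf ▸ mem_inf.2 ⟨a.2, congrArg Subtype.val ha⟩))
    rw [← Nat.card_congr (Equiv.ofBijective _ ⟨hinj, f.subgroupMap_surjective A⟩), hS.card_A]
  exp := by
    rintro _ ⟨a, ha, rfl⟩
    rw [← map_pow, hS.exp a ha, map_one]
  inv := (map_mono hS.inv).trans (le_normalizer_map f)
  cop h := hS.cop (h.trans (card_map_dvd G f))
  cent := by
    rintro _ ⟨a, ha, rfl⟩ h1 x hx y hy e1 e2
    have ha1 : a ≠ 1 := fun h => h1 (h ▸ map_one f)
    have hline := hS.isLine_zpowers ha ha1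
    have h := Coprime.map_inf_centralizer f (A := zpowers a) (K := G) (hline.1.trans hS.inv)
      (hS.coprime hline.1 le_rfl) (Or.inl (hS.isSolvable_A hline.1))
    have lift : ∀ z ∈ G.map f, f a * z = z * f a → ∃ w ∈ fix G (zpowers a), f w = z := by
      intro z hz e
      have hz' : z ∈ G.map f ⊓ centralizer (((zpowers a).map f : Subgroup X') : Set X') := by
        refine ⟨hz, ?_⟩
        rw [MonoidHom.map_zpowers]
        exact mem_centralizer_zpowers.2 e
      rw [← h] at hz'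
      exact hz'
    obtain ⟨x', hx', rfl⟩ := lift x hx e1
    obtain ⟨y', hy', rfl⟩ := lift y hy e2
    rw [← map_mul, ← map_mul, hS.fix_comm hline hx' hy']

theorem IsSetting.fix_map_eq_bot (hS : IsSetting A G q) [Finite X] {X' : Type*} [Group X']
    (f : X →* X') (hA : fix G A = ⊥) : fix (G.map f) (A.map f) = ⊥ := by
  rw [fix, ← Coprime.map_inf_centralizer f hS.inv (hS.coprime le_rfl le_rfl)
    (Or.inl (hS.isSolvable_A le_rfl)), show G ⊓ centralizer (A : Set X) = ⊥ from hA, Subgroup.map_bot]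

end Cfsg.Agent.AbelianCent
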