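import Cfsg.Agent.Lib.AbelianCent.Basic
import Cfsg.Agent.Lib.OddOrder.FittingLocal
import Mathlib.GroupTheory.SemidirectProduct
import Cfsg.Agent.Lib.Solvable.Basic
import Cfsg.Agent.Lib.Coprime.Action

/-!
# Solvable groups with abelian centralisers of a noncyclic `A` of order `q²` and `C(A) = 1`

* `isMulCommutative_of_irreducible`: a faithful irreducible action is that of an abelian group;
* `commutator_isNilpotent`: the derived subgroup is nilpotent.
-/

namespace Cfsg.Agent.AbelianCent

open Subgroup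
open scoped Pointwise commutatorElement

universe u

theorem mem_normalizer_of_forall {X : Type*} [Group X] [Finite X] {H : Subgroup X} {g : X}
    (h : ∀ x ∈ H, g * x * g⁻¹ ∈ H) : g ∈ normalizer (H : Set X) := by
  rw [mem_normalizer_iff_map_conj_eq]
  exact eq_of_le_of_card_ge (map_le_iff_le_comap.2 h)
    (card_map_of_injective (MulAut.conj g).injective).ge

variable {X : Type*} [Group X] [Finite X] {A U V : Subgroup X} {q p : ℕ}

/-- Fixed points of a line in the abelian normal `p'`-subgroup `N` and of another line: the second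
centralises `[V, fix N L]`. -/
theorem fix_le_centralizer_commutator (hS : IsSetting A U q) (hA : fix U A = ⊥)
    [IsMulCommutative V] (hVA : A ≤ normalizer (V : Set X))
    (hUV : U ≤ normalizer (V : Set X))
    (hcomm : ∀ L, IsLine A q L → fix U L ≤ centralizer (fix V L : Set X))
    {N : Subgroup X} [IsMulCommutative N] (hNU : N ≤ U) (hNA : A ≤ normalizer (N : Set X))
    (hcop : (Nat.card N).Coprime (Nat.card V)) {L M : Subgroup X} (hL : IsLine A q L)
    (hM : IsLine A q M) (hne : L ≠ M) :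
    fix N M ≤ centralizer ((⁅V, fix N L⁆ : Subgroup X) : Set X) := by
  have hW : ⁅V, fix N L⁆ ≤ V :=
    Coprime.commutator_le_left_of_le_normalizer ((inf_le_left.trans hNU).trans hUV)
  haveI : IsMulCommutative (⁅V, fix N L⁆ : Subgroup X) :=
    ⟨⟨fun a b => Subtype.ext (congrArg (fun z : V => (z : X))
      (IsMulCommutative.is_comm.comm (⟨(a : X), hW a.2⟩ : V) ⟨(b : X), hW b.2⟩))⟩⟩
  have hNc : fix N M ≤ centralizer (fix N L : Set X) := fun a ha => mem_centralizer_iff.2 fun b hb =>
    congrArg (fun z : N => (z : X)) (IsMulCommutative.is_comm.comm (⟨b, hb.1⟩ : N) ⟨a, ha.1⟩)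
  refine le_centralizer_of_fpf
    (Coprime.le_normalizer_commutator ((inf_le_left.trans hNU).trans hUV) hNc)
    (le_normalizer_commutator' (hL.1.trans hVA) (hL.1.trans (hS.inv_fix hNA hL.1)))
    (hL.1.trans (hS.inv_fix hNA hM.1))
    ((hcop.coprime_dvd_left (card_dvd_of_le inf_le_left)).coprime_dvd_right (card_dvd_of_le hW))
    (hS.eq_one_of_commute hA (fix_mono hNU) hM hL hne.symm) ?_
  rw [eq_bot_iff]
  intro w hw
  rw [← Coprime.inf_centralizer_inf_commutator_eq_bot (A := fix N L) (V := V)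
    ((inf_le_left.trans hNU).trans hUV) (hcop.coprime_dvd_left (card_dvd_of_le inf_le_left))]
  refine ⟨⟨hW hw.1, ?_⟩, hw.1⟩
  exact le_centralizer_iff.1 ((fix_mono hNU).trans (hcomm L hL)) ⟨hW hw.1, hw.2⟩

/-- An abelian normal invariant `p'`-subgroup is fixed by one line, which has no fixed points on `V`. -/
theorem exists_line_of_abelian_normal (hS : IsSetting A U q) (hA : fix U A = ⊥)
    [IsMulCommutative V] (hVA : A ≤ normalizer (V : Set X))
    (hUV : U ≤ normalizer (V : Set X)) (hVq : (Nat.card A).Coprime (Nat.card V))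
    (hfaith : U ⊓ centralizer (V : Set X) = ⊥)
    (hirr : ∀ W ≤ V, A ≤ normalizer (W : Set X) → U ≤ normalizer (W : Set X) → W = ⊥ ∨ W = V)
    (hcomm : ∀ L, IsLine A q L → fix U L ≤ centralizer (fix V L : Set X))
    {N : Subgroup X} [hNc : IsMulCommutative N] (hNU : N ≤ U) (hNA : A ≤ normalizer (N : Set X))
    (hUN : U ≤ normalizer (N : Set X)) (hNbot : N ≠ ⊥)
    (hcop : (Nat.card N).Coprime (Nat.card V)) :
    ∃ D, IsLine A q D ∧ N ≤ centralizer (D : Set X) ∧ fix V D = ⊥ := by
  have hNV : N ≤ normalizer (V : Set X) := hNU.trans hUV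
  have hNN : ∀ L, N ≤ centralizer (fix N L : Set X) := fun L a ha => mem_centralizer_iff.2 fun b hb =>
    congrArg (fun z : N => (z : X)) (IsMulCommutative.is_comm.comm (⟨b, hb.1⟩ : N) ⟨a, ha⟩)
  have hsolN : Group.IsSolvable N := Group.isSolvable_of_comm fun x y =>
    IsMulCommutative.is_comm.comm x y
  set W : Subgroup X → Subgroup X := fun L => ⁅V, fix N L⁆ with hWdef
  have hWV : ∀ L, W L ≤ V := fun L =>
    Coprime.commutator_le_left_of_le_normalizer (inf_le_left.trans hNV)
  have hWA : ∀ L, IsLine A q L → A ≤ normalizer (W L : Set X) := fun L hL =>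
    le_normalizer_commutator' hVA (hS.inv_fix hNA hL.1)
  have hWN : ∀ L, N ≤ normalizer (W L : Set X) := fun L =>
    Coprime.le_normalizer_commutator hNV (hNN L)
  have hsep : ∀ L M, IsLine A q L → IsLine A q M → L ≠ M → fix N M ≤ centralizer (W L : Set X) :=
    fun L M hL hM hne => fix_le_centralizer_commutator hS hA hVA hUV hcomm hNU hNA hcop hL hM hne
  -- `V = [V, N]`
  have hVN : ⁅V, N⁆ = V := by
    have h1 := Coprime.commutator_sup_centralizer (A := N) (K := V) hNV hcop (Or.inl hsolN)
    have hcA : A ≤ normalizer (fix V N : Set X) :=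
      Coprime.le_normalizer_inf_of_le hVA (le_normalizer_centralizer' hNA)
    have hcU : U ≤ normalizer (fix V N : Set X) :=
      Coprime.le_normalizer_inf_of_le hUV (le_normalizer_centralizer' hUN)
    rcases hirr _ inf_le_left hcA hcU with h | h
    · rw [show V ⊓ centralizer (N : Set X) = ⊥ from h, sup_bot_eq] at h1
      exact h1
    · refine absurd (eq_bot_iff.2 fun n hn => ?_) hNbot
      rw [← hfaith]
      exact ⟨hNU hn, le_centralizer_iff.1 (inf_eq_left.1 h) hn⟩
  -- `N` acts on `W L` through the fixed points of `L`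
  have hmod : ∀ L, IsLine A q L → ∀ l ∈ L, ∀ n ∈ N,
      n⁻¹ * (l * n * l⁻¹) ∈ centralizer (W L : Set X) := by
    intro L hL l hl
    have hlA := hL.1 hl
    have hconj : ∀ n ∈ N, l * n * l⁻¹ ∈ N := fun n hn => (mem_normalizer_iff.1 (hNA hlA) n).1 hn
    have comm : ∀ a ∈ N, ∀ b ∈ N, a * b = b * a := fun a ha b hb =>
      congrArg (fun z : N => (z : X)) (IsMulCommutative.is_comm.comm (⟨a, ha⟩ : N) ⟨b, hb⟩)
    let T : Subgroup X :=
      { carrier := {n | n ∈ N ∧ n⁻¹ * (l * n * l⁻¹) ∈ centralizer (W L : Set X)}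
        one_mem' := ⟨one_mem N, by simp [one_mem]⟩
        mul_mem' := fun {a b} ha hb => ⟨mul_mem ha.1 hb.1, by
          have e : (a * b)⁻¹ * (l * (a * b) * l⁻¹) =
              (a⁻¹ * (l * a * l⁻¹)) * (b⁻¹ * (l * b * l⁻¹)) := by
            rw [show (a * b)⁻¹ * (l * (a * b) * l⁻¹) =
              b⁻¹ * (a⁻¹ * (l * a * l⁻¹)) * (l * b * l⁻¹) by group,
              comm b⁻¹ (inv_mem hb.1) _ (mul_mem (inv_mem ha.1) (hconj a ha.1))]
            group
          rw [e]
          exact mul_mem ha.2 hb.2⟩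
        inv_mem' := fun {a} ha => ⟨inv_mem ha.1, by
          have e : a⁻¹⁻¹ * (l * a⁻¹ * l⁻¹) = (a⁻¹ * (l * a * l⁻¹))⁻¹ := by
            rw [inv_inv, show (a⁻¹ * (l * a * l⁻¹))⁻¹ = (l * a⁻¹ * l⁻¹) * a by group,
              comm _ (hconj _ (inv_mem ha.1)) a ha.1]
          rw [e]
          exact inv_mem ha.2⟩ }
    intro n hn
    refine ((hS.le_of_fix_le hNU hNA (S := T) fun M hM m hm => ⟨hm.1, ?_⟩) hn).2
    by_cases hML : M = L
    · subst hML
      have : l * m * l⁻¹ = m := mul_inv_eq_iff_eq_mul.2 (mem_centralizer_iff.1 hm.2 l hl)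
      rw [this, inv_mul_cancel]
      exact one_mem _
    · have h1 := hsep L M hL hM (Ne.symm hML) hm
      refine mul_mem (inv_mem h1) ?_
      exact (mem_normalizer_iff.1 (le_normalizer_centralizer' (hWA L hL) hlA) m).1 h1
  -- `fix N L` consists of the elements centralising every other `W M`
  have hchar : ∀ L, IsLine A q L → ∀ n ∈ N,
      (∀ M, IsLine A q M → M ≠ L → n ∈ centralizer (W M : Set X)) → n ∈ fix N L := by
    intro L hL n hn h
    refine ⟨hn, mem_centralizer_iff.2 fun l hl => ?_⟩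
    have hlA := hL.1 hl
    set m := n⁻¹ * (l * n * l⁻¹) with hm
    have hmN : m ∈ N := mul_mem (inv_mem hn) ((mem_normalizer_iff.1 (hNA hlA) n).1 hn)
    have hall : ∀ M, IsLine A q M → m ∈ centralizer (W M : Set X) := by
      intro M hM
      by_cases hML : M = L
      · subst hML; exact hmod M hM l hl n hn
      · exact mul_mem (inv_mem (h M hM hML))
          ((mem_normalizer_iff.1 (le_normalizer_centralizer' (hWA M hM) hlA) n).1 (h M hM hML))
    -- `m` centralises `[V, N]`
    have hVm : ⁅V, N⁆ ≤ centralizer ({m} : Set X) := by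
      have hgen : N ≤ closure {x : X | ∃ M, IsLine A q M ∧ x ∈ fix N M} :=
        hS.le_of_fix_le hNU hNA fun M hM x hx => subset_closure ⟨M, hM, hx⟩
      refine commutator_le_of_forall hgen ?_ ?_
      · refine ((closure_le (K := N)).2 ?_).trans ?_
        · rintro x ⟨M, -, hx⟩; exact hx.1
        · exact fun x hx => le_normalizer (H := centralizer ({m} : Set X))
            (mem_centralizer_singleton_iff.2 (congrArg (fun z : N => (z : X))
              (IsMulCommutative.is_comm.comm (⟨x, hx⟩ : N) ⟨m, hmN⟩)))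
      · rintro v hv x ⟨M, hM, hx⟩
        exact mem_centralizer_singleton_iff.2
          (mem_centralizer_iff.1 (hall M hM) _ (commutator_mem_commutator hv hx))
    rw [hVN] at hVm
    have hm1 : m = 1 := mem_bot.1 (hfaith ▸ ⟨hNU hmN, mem_centralizer_iff.2 fun v hv =>
      mem_centralizer_singleton_iff.1 (hVm hv)⟩)
    rw [hm, inv_mul_eq_one] at hm1
    exact mul_inv_eq_iff_eq_mul.1 hm1.symm
  -- every fixed-point group of `U` preserves the `W L`
  have hnorm : ∀ L, IsLine A q L → U ≤ normalizer (fix N L : Set X) := by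
    intro L hL
    refine hS.le_of_fix_le le_rfl hS.inv fun B hB x hx => mem_normalizer_of_forall fun f hf => ?_
    have hxN : ∀ g ∈ N, x * g * x⁻¹ ∈ N := fun g hg => (mem_normalizer_iff.1 (hUN hx.1) g).1 hg
    have hxW : ∀ H, IsLine A q H → H ≠ B → x ∈ normalizer (W H : Set X) := by
      intro H hH hHB
      set S₀ := W H ⊓ (W H).comap (MulAut.conj x).toMonoidHom with hS₀
      have hSN : fix N H ≤ normalizer (S₀ : Set X) := fun g hg => mem_normalizer_of_forall
        fun v hv => by
          refine mem_inf.2 ⟨(mem_normalizer_iff.1 (hWN H hg.1) v).1 hv.1, ?_⟩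
          show x * (g * v * g⁻¹) * x⁻¹ ∈ W H
          have h1 := (mem_normalizer_iff.1 (hWN H (hxN g hg.1)) _).1
            (show x * v * x⁻¹ ∈ W H from hv.2)
          convert h1 using 1
          group
      have hSB : B ≤ normalizer (S₀ : Set X) := fun b hb => mem_normalizer_of_forall fun v hv => by
        refine mem_inf.2 ⟨(mem_normalizer_iff.1 (hWA H hH (hB.1 hb)) v).1 hv.1, ?_⟩
        show x * (b * v * b⁻¹) * x⁻¹ ∈ W H
        have hxb : b * x = x * b := mem_centralizer_iff.1 hx.2 b hb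
        have hxb' : b⁻¹ * x⁻¹ = x⁻¹ * b⁻¹ := by rw [← mul_inv_rev, ← mul_inv_rev, hxb]
        rw [show x * (b * v * b⁻¹) * x⁻¹ = (x * b) * v * (b⁻¹ * x⁻¹) by group, ← hxb, hxb',
          show (b * x) * v * (x⁻¹ * b⁻¹) = b * (x * v * x⁻¹) * b⁻¹ by group]
        exact (mem_normalizer_iff.1 (hWA H hH (hB.1 hb)) _).1 hv.2
      have hSV : W H ≤ normalizer (S₀ : Set X) := fun w hw => mem_normalizer_of_forall fun v hv => by
        have hwv : w * v = v * w := congrArg (fun z : V => (z : X))
          (IsMulCommutative.is_comm.comm (⟨w, hWV H hw⟩ : V) ⟨v, hWV H hv.1⟩)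
        rwa [hwv, mul_inv_cancel_right]
      have hab : ⁅W H, W H⁆ ≤ S₀ := commutator_le.2 fun a ha b hb => by
        have hab' : a * b = b * a := congrArg (fun z : V => (z : X))
          (IsMulCommutative.is_comm.comm (⟨a, hWV H ha⟩ : V) ⟨b, hWV H hb⟩)
        rw [commutatorElement_eq_one_iff_mul_comm.2 hab']
        exact one_mem _
      have hle : ⁅W H, fix N H⁆ ≤ S₀ := by
        refine commutator_le_of_fpf (L := B) hSV hSN hSB (inf_le_left.trans (hWN H))
          (hB.1.trans (hWA H hH)) (hB.1.trans (hS.inv_fix hNA hH.1))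
          ((hcop.coprime_dvd_left (card_dvd_of_le inf_le_left)).coprime_dvd_right
            (card_dvd_of_le (hWV H)))
          (hS.isSolvable_A hB.1) (hS.coprime hB.1 (inf_le_left.trans hNU))
          ((hVq.coprime_dvd_left (card_dvd_of_le hB.1)).coprime_dvd_right (card_dvd_of_le (hWV H)))
          hab (hS.eq_one_of_commute hA (fix_mono hNU) hH hB hHB) ?_
        intro w hw
        refine mem_inf.2 ⟨hw.1, ?_⟩
        show x * w * x⁻¹ ∈ W H
        rw [← mem_centralizer_iff.1 (hcomm B hB hx) w ⟨hWV H hw.1, hw.2⟩, mul_inv_cancel_right]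
        exact hw.1
      have heq : ⁅W H, fix N H⁆ = W H := Coprime.commutator_commutator_eq
        (inf_le_left.trans hNV) (hcop.coprime_dvd_left (card_dvd_of_le inf_le_left))
        (Or.inl (Coprime.isSolvable_of_le inf_le_left hsolN))
      exact mem_normalizer_of_forall fun w hw => (hle (heq.ge hw)).2
    refine hchar L hL _ (hxN f hf.1) fun H hH hHL => ?_
    by_cases hHB : H = B
    · subst hHB
      -- `f = [h, g]` for some `g ∈ fix N L`
      obtain ⟨h, hh, hh1⟩ : ∃ h ∈ H, h ≠ 1 := by
        obtain ⟨⟨h, hh⟩, hne⟩ := H.ne_bot_iff_exists_ne_one.1 (hH.ne_bot hS)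
        exact ⟨h, hh, fun e => hne (Subtype.ext e)⟩
      have hinv : ∀ g ∈ fix N L, h * g * h⁻¹ ∈ fix N L := fun g hg =>
        (mem_normalizer_iff.1 (hS.inv_fix hNA hL.1 (hH.1 hh)) g).1 hg
      let φ : fix N L → fix N L := fun g =>
        ⟨(g : X)⁻¹ * (h * g * h⁻¹), mul_mem (inv_mem g.2) (hinv g g.2)⟩
      have hφ : Function.Injective φ := by
        intro a b hab
        have e : (a : X)⁻¹ * (h * a * h⁻¹) = (b : X)⁻¹ * (h * b * h⁻¹) := congrArg Subtype.val hab
        have hc : h * ((b : X) * (a : X)⁻¹) = (b : X) * (a : X)⁻¹ * h := by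
          calc h * ((b : X) * (a : X)⁻¹) = b * ((b : X)⁻¹ * (h * b * h⁻¹)) * h * (a : X)⁻¹ := by group
            _ = b * ((a : X)⁻¹ * (h * a * h⁻¹)) * h * (a : X)⁻¹ := by rw [e]
            _ = (b : X) * (a : X)⁻¹ * h := by group
        exact Subtype.ext (mul_inv_eq_one.1 (hS.eq_one_of_commute hA (fix_mono hNU) hL hH hHL.symm h hh
          hh1 _ (mul_mem b.2 (inv_mem a.2)) hc)).symm
      obtain ⟨g, hg⟩ := Finite.surjective_of_injective hφ ⟨f, hf⟩
      have hgf : (g : X)⁻¹ * (h * g * h⁻¹) = f := congrArg Subtype.val hg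
      have hxh : h * x = x * h := mem_centralizer_iff.1 hx.2 h hh
      have key := hmod H hH h hh _ (hxN g g.2.1)
      have hxh' : x⁻¹ * h⁻¹ = h⁻¹ * x⁻¹ := by rw [← mul_inv_rev, ← mul_inv_rev, hxh]
      rw [show h * (x * g * x⁻¹) * h⁻¹ = (h * x) * g * (x⁻¹ * h⁻¹) by group, hxh, hxh'] at key
      rw [← hgf]
      convert key using 1
      group
    · have hfc : f ∈ centralizer (W H : Set X) := hsep H L hH hL hHL hf
      exact (mem_normalizer_iff.1
        (le_normalizer_centralizer' le_rfl (hxW H hH hHB)) f).1 hfc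
  -- one line only
  obtain ⟨D, hD, hND⟩ : ∃ D, IsLine A q D ∧ fix N D ≠ ⊥ := by
    by_contra h
    push Not at h
    exact hNbot (eq_bot_iff.2 (hS.le_of_fix_le hNU hNA fun L hL => (h L hL).le))
  have hWne : ∀ L, IsLine A q L → fix N L ≠ ⊥ → W L = V := by
    intro L hL hne
    refine (hirr (W L) (hWV L) (hWA L hL) (le_normalizer_commutator' hUV (hnorm L hL))).resolve_left
      fun h => hne (eq_bot_iff.2 fun n hn => ?_)
    rw [← hfaith]
    exact ⟨hNU hn.1, (Coprime.le_centralizer_iff_commutator_eq_bot.2 h) hn⟩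
  have hND' : N ≤ centralizer (D : Set X) := by
    refine hS.le_of_fix_le hNU hNA fun L hL => ?_
    by_cases hLD : L = D
    · subst hLD; exact inf_le_right
    · refine (le_bot_iff.2 ?_ : fix N L ≤ ⊥).trans bot_le
      rw [eq_bot_iff]
      intro n hn
      rw [← hfaith]
      exact ⟨hNU hn.1, hWne D hD hND ▸ hsep D L hD hL (Ne.symm hLD) hn⟩
  refine ⟨D, hD, hND', ?_⟩
  have hle : fix V D ≤ fix V N := fun v hv => mem_inf.2 ⟨hv.1, mem_centralizer_iff.2 fun n hn =>
    (mem_centralizer_iff.1 (hcomm D hD ⟨hNU hn, hND' hn⟩) v hv).symm⟩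
  have hcA : A ≤ normalizer (fix V N : Set X) :=
    Coprime.le_normalizer_inf_of_le hVA (le_normalizer_centralizer' hNA)
  have hcU : U ≤ normalizer (fix V N : Set X) :=
    Coprime.le_normalizer_inf_of_le hUV (le_normalizer_centralizer' hUN)
  rcases hirr _ inf_le_left hcA hcU with h | h
  · exact eq_bot_iff.2 (hle.trans h.le)
  · refine absurd (eq_bot_iff.2 fun n hn => ?_) hNbot
    rw [← hfaith]
    exact ⟨hNU hn, le_centralizer_iff.1 (inf_eq_left.1 h) hn⟩


/-- A solvable group acting faithfully and irreducibly (with `A`) is abelian. -/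
theorem isMulCommutative_of_irreducible [Fact p.Prime] (hS : IsSetting A U q) (hA : fix U A = ⊥)
    [IsMulCommutative V] (hVp : IsPGroup p V) (hVbot : V ≠ ⊥) (hVA : A ≤ normalizer (V : Set X))
    (hUV : U ≤ normalizer (V : Set X)) (hVq : (Nat.card A).Coprime (Nat.card V))
    (hfaith : U ⊓ centralizer (V : Set X) = ⊥)
    (hirr : ∀ W ≤ V, A ≤ normalizer (W : Set X) → U ≤ normalizer (W : Set X) → W = ⊥ ∨ W = V)
    (hcomm : ∀ L, IsLine A q L → fix U L ≤ centralizer (fix V L : Set X))
    [hsol : Group.IsSolvable U] : IsMulCommutative U := by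
  by_cases hU : U = ⊥
  · subst hU; exact ⟨⟨fun a b => Subsingleton.elim _ _⟩⟩
  have hAU : A ≤ normalizer (U : Set X) := hS.inv
  -- `O_p(U) = 1`
  have hp1 : OddOrder.pOf p U = ⊥ := by
    set P := OddOrder.pOf p U with hPdef
    by_contra hP
    have hPA : A ≤ normalizer (P : Set X) := hAU.trans (OddOrder.normalizer_le_normalizer_pOf U)
    have hPU : U ≤ normalizer (P : Set X) := OddOrder.le_normalizer_pOf U
    have hPV : P ≤ normalizer (V : Set X) := (OddOrder.pOf_le U).trans hUV
    have hne : fix V P ≠ ⊥ := by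
      intro h
      have h2 := Coprime.commutator_lt_of_isPGroup (OddOrder.isPGroup_pOf U) hVp hPV hVbot
      obtain ⟨v, hv, w, hw, hlast⟩ : ∃ v ∈ V, ∃ w : X, w ≠ 1 ∧ w ∈ V ⊓ centralizer (P : Set X) := by
        haveI := (nontrivial_iff_ne_bot V).2 hVbot
        have hS' : IsPGroup p (P ⊔ V : Subgroup X) :=
          (OddOrder.isPGroup_pOf U).to_sup_of_normal_right' hVp hPV
        have := hS'.isNilpotent
        haveI : (V.subgroupOf (P ⊔ V)).Normal :=
          (normal_subgroupOf_iff_le_normalizer le_sup_right).2 (sup_le hPV le_normalizer)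
        have hb : V.subgroupOf (P ⊔ V) ≠ ⊥ := fun h => hVbot (eq_bot_iff.2 fun x hx => by
          have : (⟨x, mem_sup_right hx⟩ : (P ⊔ V : Subgroup X)) ∈ V.subgroupOf (P ⊔ V) := hx
          rw [h, mem_bot] at this
          exact congrArg Subtype.val this)
        obtain ⟨z, hz1⟩ := ((V.subgroupOf (P ⊔ V) ⊓ center _).ne_bot_iff_exists_ne_one).1
          (Solvable.inf_center_ne_bot hb)
        refine ⟨_, z.2.1, _, fun h => hz1 (Subtype.ext (Subtype.ext h)), z.2.1,
          mem_centralizer_iff.2 fun y hy => ?_⟩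
        exact congrArg Subtype.val (mem_center_iff.1 z.2.2 ⟨y, mem_sup_left hy⟩)
      exact hw (mem_bot.1 (h ▸ hlast))
    rcases hirr (fix V P) inf_le_left
      (Coprime.le_normalizer_inf_of_le hVA (le_normalizer_centralizer' hPA))
      (Coprime.le_normalizer_inf_of_le hUV (le_normalizer_centralizer' hPU)) with h | h
    · exact hne h
    · refine hP (eq_bot_iff.2 fun x hx => ?_)
      rw [← hfaith]
      exact ⟨OddOrder.pOf_le U hx, le_centralizer_iff.1 (inf_eq_left.1 h) hx⟩
  set F := fittingOf U with hF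
  have hFU : F ≤ U := OddOrder.fittingOf_le U
  have hUF : U ≤ normalizer (F : Set X) := OddOrder.le_normalizer_fittingOf U
  have hAF : A ≤ normalizer (F : Set X) :=
    hAU.trans (Components.normalizer_le_normalizer_map_of_characteristic U (fittingSubgroup U))
  have hFbot : F ≠ ⊥ := fun h => hU (eq_bot_iff.2 fun x hx => by
    rw [← h]
    exact OddOrder.inf_centralizer_fittingOf_le U ⟨hx, by simp [← hF, h, mem_centralizer_iff]⟩)
  have hFp : (Nat.card F).Coprime (Nat.card V) := by
    obtain ⟨k, hk⟩ := hVp.exists_card_eq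
    rw [hk]
    exact (((Nat.Prime.coprime_iff_not_dvd Fact.out).2 (OddOrder.pOf_eq_bot_iff.1 hp1)).pow_left k).symm
  -- the centre of `F`
  set N := F ⊓ centralizer (F : Set X) with hN
  haveI : IsMulCommutative N := ⟨⟨fun a b => Subtype.ext (mem_centralizer_iff.1 b.2.2 a a.2.1)⟩⟩
  have hNA : A ≤ normalizer (N : Set X) :=
    Coprime.le_normalizer_inf_of_le hAF (le_normalizer_centralizer' hAF)
  have hUN : U ≤ normalizer (N : Set X) :=
    Coprime.le_normalizer_inf_of_le hUF (le_normalizer_centralizer' hUF)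
  have hNbot : N ≠ ⊥ := by
    haveI := (nontrivial_iff_ne_bot F).2 hFbot
    haveI : Group.IsNilpotent F := OddOrder.isNilpotent_fittingOf U
    obtain ⟨z, hz⟩ := ((center F).ne_bot_iff_exists_ne_one).1 (by
      have := Solvable.inf_center_ne_bot (N := (⊤ : Subgroup F)) top_ne_bot
      simpa using this)
    intro h
    refine hz (Subtype.ext (Subtype.ext (mem_bot.1 (h ▸ ?_))))
    exact ⟨(z : F).2, mem_centralizer_iff.2 fun y hy =>
      congrArg Subtype.val (mem_center_iff.1 z.2 ⟨y, hy⟩)⟩
  obtain ⟨D, hD, -, hVD⟩ := exists_line_of_abelian_normal hS hA hVA hUV hVq hfaith hirr hcomm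
    (inf_le_left.trans hFU) hNA hUN hNbot (hFp.coprime_dvd_left (card_dvd_of_le inf_le_left))
  have hFD : F ≤ centralizer (D : Set X) := by
    refine hS.le_of_fix_le hFU hAF fun L hL => ?_
    by_cases hLD : L = D
    · subst hLD; exact inf_le_right
    · refine (le_bot_iff.2 ?_ : fix F L ≤ ⊥).trans bot_le
      rw [eq_bot_iff]
      intro x hx
      rw [← hfaith]
      refine ⟨hFU hx.1, le_centralizer_of_fpf_pgroup hVp (inf_le_left.trans (hFU.trans hUV))
        (hD.1.trans hVA) (hD.1.trans (hS.inv_fix hAF hL.1))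
        (hFp.coprime_dvd_left (card_dvd_of_le inf_le_left)) (hS.isSolvable_A hD.1)
        (hS.coprime hD.1 (inf_le_left.trans hFU)) (hVq.coprime_dvd_left (card_dvd_of_le hD.1))
        (hS.eq_one_of_commute hA (fix_mono hFU) hL hD hLD) hVD hx⟩
  suffices h : U ≤ centralizer (D : Set X) from
    ⟨⟨fun a b => Subtype.ext (hS.fix_comm hD ⟨a.2, h a.2⟩ ⟨b.2, h b.2⟩)⟩⟩
  intro x hx
  refine mem_centralizer_iff.2 fun d hd => ?_
  have hxd : d * x * d⁻¹ ∈ U := (mem_normalizer_iff.1 (hAU (hD.1 hd)) x).1 hx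
  set z := d * x * d⁻¹ * x⁻¹ with hz
  have hzU : z ∈ U := mul_mem hxd (inv_mem hx)
  have hzC : z ∈ centralizer (F : Set X) := by
    refine mem_centralizer_iff.2 fun f hf => ?_
    have h1 : x⁻¹ * f * x ∈ F := (mem_normalizer_iff''.1 (hUF hx) f).1 hf
    have e1 : d * f * d⁻¹ = f := mul_inv_eq_iff_eq_mul.2 (mem_centralizer_iff.1 (hFD hf) d hd)
    have e2 : d * (x⁻¹ * f * x) * d⁻¹ = x⁻¹ * f * x :=
      mul_inv_eq_iff_eq_mul.2 (mem_centralizer_iff.1 (hFD h1) d hd)
    have e3 : (d * x * d⁻¹) * (x⁻¹ * f * x) * (d * x * d⁻¹)⁻¹ = f :=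
      calc (d * x * d⁻¹) * (x⁻¹ * f * x) * (d * x * d⁻¹)⁻¹
            = (d * x * d⁻¹) * (d * (x⁻¹ * f * x) * d⁻¹) * (d * x * d⁻¹)⁻¹ := by rw [e2]
        _ = d * f * d⁻¹ := by group
        _ = f := e1
    calc f * z = ((d * x * d⁻¹) * (x⁻¹ * f * x) * (d * x * d⁻¹)⁻¹) * z := by rw [e3]
      _ = z * f := by rw [hz]; group
  have hzF : z ∈ F := OddOrder.inf_centralizer_fittingOf_le U ⟨hzU, hzC⟩
  have hzd : Commute d z := mem_centralizer_iff.1 (hFD hzF) d hd
  exact Coprime.commute_of_translate (show d * x * d⁻¹ = z * x by rw [hz]; group) hzd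
    (Coprime.orderOf_coprime_of_mem hd hzU (hS.coprime hD.1 le_rfl))

/-- The step: `M' ≤ C(N)` and `M'/(M' ∩ N)` nilpotent. -/
theorem commutator_isNilpotent_aux (n : ℕ) : ∀ (X : Type u) [Group X] [Finite X]
    (A M : Subgroup X) (q : ℕ), IsSetting A M q → fix M A = ⊥ → Group.IsSolvable M →
    Nat.card M = n → Group.IsNilpotent (⁅M, M⁆ : Subgroup X) := by
  induction n using Nat.strong_induction_on with
  | _ n ih =>
  intro X₀ _ _ A₀ M₀ q hS₀ hA₀ hsol₀ hn
  -- reduce to `X = M A`
  suffices key : ∀ (X : Type u) [Group X] [Finite X] (A M : Subgroup X), IsSetting A M q →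
      fix M A = ⊥ → Group.IsSolvable M → Nat.card M = n → M ⊔ A = ⊤ →
      Group.IsNilpotent (⁅M, M⁆ : Subgroup X) by
    set Y := M₀ ⊔ A₀ with hY
    have h := key Y (A₀.subgroupOf Y) (M₀.subgroupOf Y) (hS₀.subgroupOf le_sup_right le_sup_left)
      (eq_bot_iff.2 fun x hx => by
        have h1 : (x : X₀) ∈ fix M₀ A₀ := ⟨hx.1, mem_centralizer_iff.2 fun a ha =>
          congrArg Subtype.val (mem_centralizer_iff.1 hx.2 ⟨a, mem_sup_right ha⟩ ha)⟩
        rw [hA₀, mem_bot] at h1
        exact Subtype.ext h1)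
      (Coprime.isSolvable_subgroupOf le_sup_left hsol₀)
      ((Coprime.card_subgroupOf le_sup_left).trans hn)
      (by rw [← subgroupOf_sup le_sup_left le_sup_right, subgroupOf_self])
    have e := map_commutator (M₀.subgroupOf Y) (M₀.subgroupOf Y) Y.subtype
    rw [map_subgroupOf_eq_of_le le_sup_left] at e
    have := Group.nilpotent_of_surjective _ (Y.subtype.subgroupMap_surjective
      ⁅M₀.subgroupOf Y, M₀.subgroupOf Y⁆)
    rwa [e] at this
  intro X _ _ A M hS hA hsol hn htop
  by_cases hM : M = ⊥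
  · subst hM
    rw [commutator_bot_left]
    infer_instance
  haveI hMn : M.Normal := normalizer_eq_top_iff.1 (top_le_iff.1 (htop ▸ sup_le le_normalizer hS.inv))
  obtain ⟨N, ⟨hNM, hNn, hNb⟩, hNmin⟩ := (Set.toFinite {N : Subgroup X | N ≤ M ∧ N.Normal ∧ N ≠ ⊥}).exists_minimal
    ⟨M, le_rfl, hMn, hM⟩
  haveI := hNn
  have hNmin' : ∀ W : Subgroup X, W.Normal → W ≤ N → W = ⊥ ∨ W = N := fun W hW hle => by
    by_cases hWb : W = ⊥
    · exact Or.inl hWb
    · exact Or.inr (le_antisymm hle (hNmin ⟨hle.trans hNM, hW, hWb⟩ hle))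
  haveI hNsol : Group.IsSolvable N := Coprime.isSolvable_of_le hNM hsol
  haveI hNab : IsMulCommutative N := by
    rcases hNmin' ((commutator N).map N.subtype) inferInstance (map_subtype_le _) with h | h
    · refine ⟨⟨fun a b => commutatorElement_eq_one_iff_mul_comm.1 ?_⟩⟩
      have h2 : commutator N = ⊥ := by
        rwa [map_eq_bot_iff_of_injective _ N.subtype_injective] at h
      exact mem_bot.1 (h2 ▸ commutator_mem_commutator (mem_top a) (mem_top b))
    · exfalso
      haveI := (nontrivial_iff_ne_bot N).2 hNb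
      have h2 : commutator N = ⊤ := map_injective N.subtype_injective (h.trans (by
        rw [← MonoidHom.range_eq_map, range_subtype]))
      exact (Group.IsSolvable.commutator_lt_top_of_nontrivial N).ne h2
  obtain ⟨p, hp, hpd⟩ := Nat.exists_prime_and_dvd (n := Nat.card N) fun h => hNb (card_eq_one.1 h)
  haveI := Fact.mk hp
  have hNp : IsPGroup p N := by
    obtain ⟨P⟩ := (inferInstance : Nonempty (Sylow p N))
    have hPn : (P : Subgroup N).Normal := Subgroup.normal_of_comm _
    haveI : (P : Subgroup N).Characteristic := P.characteristic_of_normal hPn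
    rcases hNmin' ((P : Subgroup N).map N.subtype) inferInstance (map_subtype_le _) with h | h
    · refine absurd ?_ (P.ne_bot_of_dvd_card hpd)
      rwa [map_eq_bot_iff_of_injective _ N.subtype_injective] at h
    · have h2 : (P : Subgroup N) = ⊤ := map_injective N.subtype_injective (h.trans (by
        rw [← MonoidHom.range_eq_map, range_subtype]))
      exact fun x => by
        obtain ⟨k, hk⟩ := P.2 ⟨x, h2 ▸ mem_top x⟩
        exact ⟨k, congrArg Subtype.val hk⟩
  -- `M' ≤ C(N)`
  have hMN : ⁅M, M⁆ ≤ centralizer (N : Set X) := by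
    set C := M ⊓ centralizer (N : Set X) with hC
    let ρ : X ⧸ C →* MulAut N := QuotientGroup.lift C (MulAut.conjNormal (H := N)) fun c hc => by
      refine MulEquiv.ext fun v => Subtype.ext ?_
      show c * v * c⁻¹ = v
      exact mul_inv_eq_iff_eq_mul.2 (mem_centralizer_iff.1 hc.2 v v.2).symm
    haveI := Coprime.finite_semidirectProduct ρ
    let f : X →* N ⋊[ρ] (X ⧸ C) := SemidirectProduct.inr.comp (QuotientGroup.mk' C)
    have hker : ∀ x, f x = 1 ↔ x ∈ C := fun x => by
      show SemidirectProduct.inr (QuotientGroup.mk' C x) = 1 ↔ _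
      rw [← map_one (SemidirectProduct.inr : X ⧸ C →* N ⋊[ρ] (X ⧸ C)),
        SemidirectProduct.inr_injective.eq_iff]
      exact QuotientGroup.eq_one_iff x
    have hinl : ∀ (x : X) (v : N), f x * SemidirectProduct.inl v * (f x)⁻¹ =
        SemidirectProduct.inl (MulAut.conjNormal x v) := fun x v => by
      show SemidirectProduct.inr (QuotientGroup.mk' C x) * _ *
        (SemidirectProduct.inr (QuotientGroup.mk' C x))⁻¹ = _
      rw [← map_inv, ← SemidirectProduct.inl_aut]
      rfl
    have hAk : A ⊓ f.ker = ⊥ := by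
      have h1 : A ⊓ M = ⊥ := Coprime.disjoint_of_coprime_card (hS.coprime le_rfl le_rfl)
      exact eq_bot_iff.2 fun x hx => h1 ▸ ⟨hx.1, ((hker x).1 hx.2).1⟩
    let V' : Subgroup (N ⋊[ρ] (X ⧸ C)) := (SemidirectProduct.inl : N →* _).range
    haveI : V'.Normal := by
      rw [show V' = _ from SemidirectProduct.range_inl_eq_ker_rightHom]; infer_instance
    haveI : IsMulCommutative V' := ⟨⟨by
      rintro ⟨_, a, rfl⟩ ⟨_, b, rfl⟩
      exact Subtype.ext (by simp only [Subgroup.coe_mul, ← map_mul,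
        IsMulCommutative.is_comm.comm a b])⟩⟩
    have hV'p : IsPGroup p V' := hNp.of_surjective _ (SemidirectProduct.inl : N →* _).rangeRestrict_surjective
    have hV'b : V' ≠ ⊥ := fun h => hNb (eq_bot_iff.2 fun x hx => by
      have h1 : (SemidirectProduct.inl (⟨x, hx⟩ : N) : N ⋊[ρ] (X ⧸ C)) ∈ V' := ⟨_, rfl⟩
      rw [h, mem_bot, ← map_one (SemidirectProduct.inl : N →* N ⋊[ρ] (X ⧸ C)),
        SemidirectProduct.inl_injective.eq_iff] at h1
      exact congrArg Subtype.val h1)
    have hfixV : ∀ (x : X) (v : N), f x * SemidirectProduct.inl v = SemidirectProduct.inl v * f x →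
        x * v = v * x := fun x v h => by
      have h1 := hinl x v
      rw [h, mul_inv_cancel_right] at h1
      have h2 := congrArg Subtype.val (SemidirectProduct.inl_injective h1)
      exact mul_inv_eq_iff_eq_mul.1 h2.symm
    haveI : Group.IsSolvable (M.map f) := Coprime.isSolvable_map f M hsol
    have hab : IsMulCommutative (M.map f) := by
      refine isMulCommutative_of_irreducible (hS.map f hAk) (hS.fix_map_eq_bot f hA) hV'p hV'b
        (by rw [normalizer_eq_top]; exact le_top) (by rw [normalizer_eq_top]; exact le_top)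
        ?_ ?_ ?_ ?_
      · rw [(hS.map f hAk).card_A, ← hS.card_A]
        refine Nat.Coprime.coprime_dvd_right ?_ (hS.coprime le_rfl hNM)
        exact card_dvd_of_surjective _ (SemidirectProduct.inl : N →* N ⋊[ρ] (X ⧸ C)).rangeRestrict_surjective
      · rw [eq_bot_iff]
        rintro _ ⟨⟨m, hm, rfl⟩, hc⟩
        rw [mem_bot, hker]
        refine ⟨hm, mem_centralizer_iff.2 fun v hv => (hfixV m ⟨v, hv⟩ ?_).symm⟩
        exact (mem_centralizer_iff.1 hc _ ⟨_, rfl⟩).symm
      · intro W hW hWA hWM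
        let W₀ := (W.comap (SemidirectProduct.inl : N →* _)).map N.subtype
        have hn : ∀ x, f x ∈ normalizer (W : Set _) → x ∈ normalizer (W₀ : Set X) := fun x hx =>
          mem_normalizer_of_forall fun y hy => by
            obtain ⟨v, hv, rfl⟩ := hy
            refine ⟨MulAut.conjNormal x v, ?_, rfl⟩
            show SemidirectProduct.inl _ ∈ W
            rw [← hinl]
            exact (mem_normalizer_iff.1 hx _).1 hv
        haveI : W₀.Normal := normalizer_eq_top_iff.1 (top_le_iff.1 (htop ▸ sup_le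
          (fun m hm => hn m (hWM (mem_map_of_mem f hm))) fun a ha => hn a (hWA (mem_map_of_mem f ha))))
        rcases hNmin' W₀ inferInstance (map_subtype_le _) with h | h
        · left
          rw [map_eq_bot_iff_of_injective _ N.subtype_injective] at h
          rw [eq_bot_iff]
          intro w hw
          obtain ⟨v, rfl⟩ := hW hw
          have : v ∈ W.comap (SemidirectProduct.inl : N →* _) := hw
          rw [h, mem_bot] at this
          rw [this, map_one]
          exact one_mem _
        · right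
          refine le_antisymm hW ?_
          rintro _ ⟨v, rfl⟩
          obtain ⟨w, hw, hwv⟩ := h.ge v.2
          rwa [show v = w from Subtype.ext hwv.symm]
      · rintro L' hL' _ ⟨⟨m, hm, rfl⟩, hc⟩
        obtain ⟨⟨_, hl⟩, hl1⟩ := L'.ne_bot_iff_exists_ne_one.1 (hL'.ne_bot (hS.map f hAk))
        obtain ⟨a, ha, rfl⟩ := hL'.1 hl
        have ha1 : a ≠ 1 := fun h => hl1 (Subtype.ext (by simp [h]))
        have hline := hS.isLine_zpowers ha ha1
        have h := Coprime.map_inf_centralizer f (A := zpowers a) (K := M) (hline.1.trans hS.inv)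
          (hS.coprime hline.1 le_rfl) (Or.inl (hS.isSolvable_A hline.1))
        have hm' : f m ∈ M.map f ⊓ centralizer (((zpowers a).map f : Subgroup _) : Set _) := by
          refine ⟨mem_map_of_mem f hm, ?_⟩
          rw [MonoidHom.map_zpowers]
          exact mem_centralizer_zpowers.2 (mem_centralizer_iff.1 hc _ hl)
        rw [← h] at hm'
        obtain ⟨m', hm'', he⟩ := hm'
        rw [← he]
        refine mem_centralizer_iff.2 ?_
        rintro _ ⟨⟨v, rfl⟩, hv⟩
        have hav : a * v = v * a := hfixV a v (mem_centralizer_iff.1 hv _ hl)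
        have h2 : (v : X) * m' = m' * v := (hS.fix_comm hline hm''
          ⟨hNM v.2, mem_centralizer_zpowers.2 hav⟩).symm
        have h3 := hinl m' v
        rw [show MulAut.conjNormal m' v = v from Subtype.ext (by
          show (m' : X) * v * m'⁻¹ = v
          rw [← h2, mul_inv_cancel_right])] at h3
        exact (mul_inv_eq_iff_eq_mul.1 h3).symm
    refine commutator_le.2 fun x hx y hy => ?_
    have h1 : f ⁅x, y⁆ = 1 := by
      rw [map_commutatorElement, commutatorElement_eq_one_iff_mul_comm]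
      exact congrArg Subtype.val
        (hab.is_comm.comm ⟨f x, mem_map_of_mem f hx⟩ ⟨f y, mem_map_of_mem f hy⟩)
    exact ((hker _).1 h1).2
  -- the quotient
  let π := QuotientGroup.mk' N
  have hπ : A ⊓ π.ker = ⊥ := by
    rw [QuotientGroup.ker_mk']
    exact Coprime.disjoint_of_coprime_card (hS.coprime le_rfl hNM)
  have hlt : Nat.card (M.map π) < n := by
    rw [← hn]
    refine lt_of_le_of_ne (Nat.le_of_dvd Nat.card_pos (card_map_dvd M π)) fun h => hNb ?_
    have hinj : Function.Injective (π.subgroupMap M) :=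
      ((Nat.bijective_iff_surjective_and_card _).2 ⟨π.subgroupMap_surjective M, h.symm⟩).1
    refine eq_bot_iff.2 fun x hx => ?_
    have h2 : π.subgroupMap M ⟨x, hNM hx⟩ = 1 := Subtype.ext ((QuotientGroup.eq_one_iff x).2 hx)
    rw [← map_one (π.subgroupMap M), hinj.eq_iff] at h2
    exact mem_bot.2 (congrArg Subtype.val h2)
  have hq := ih _ hlt (X ⧸ N) (A.map π) (M.map π) q (hS.map π hπ) (hS.fix_map_eq_bot π hA)
    (Coprime.isSolvable_map π M hsol) rfl
  rw [← map_commutator] at hq
  haveI := hq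
  refine Subgroup.isNilpotent_of_ker_le_center (π.subgroupMap ⁅M, M⁆) (fun x hx => ?_)
  have hxN : (x : X) ∈ N := (QuotientGroup.eq_one_iff (x : X)).1 (congrArg Subtype.val hx)
  exact mem_center_iff.2 fun y => Subtype.ext (mem_centralizer_iff.1 (hMN y.2) _ hxN).symm

/-- The derived subgroup is nilpotent. -/
theorem IsSetting.commutator_isNilpotent {X : Type u} [Group X] [Finite X] {A M : Subgroup X} {q : ℕ}
    (hS : IsSetting A M q) (hA : fix M A = ⊥) (hsol : Group.IsSolvable M) :
    Group.IsNilpotent (⁅M, M⁆ : Subgroup X) :=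
  commutator_isNilpotent_aux (Nat.card M) X A M q hS hA hsol rfl

end Cfsg.Agent.AbelianCent
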