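import Cfsg.Agent.Lib.Coprime.Quotient
import Cfsg.Agent.Lib.Coprime.Commutator
import Cfsg.Agent.Lib.Components.Subnormal
import Cfsg.Agent.Lib.PGroup.Frattini

/-!
# Fixed-point-free operators force trivial action

* `le_centralizer_of_fpf`: if `L` acts fixed-point-freely on `U` and without fixed points on the
  abelian group `V` (coprime orders), then `U` centralises `V`;
* `commutator_le_of_fpf`: the same modulo a subgroup `S` of `V`;
* `le_centralizer_of_fpf_pgroup`: the same for a `p`-group `V`;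
* `le_of_commutator_eq_self`: a `p`-group `V = [V, D]` is generated modulo `Φ(V)` by elements moved by `D`;
* `frattini_sup`: Frattini argument for subgroups.
-/

namespace Cfsg.Agent.AbelianCent

open Subgroup
open scoped Pointwise commutatorElement

variable {X : Type*} [Group X]

theorem le_normalizer_commutator' {H K N : Subgroup X} (hH : N ≤ normalizer (H : Set X))
    (hK : N ≤ normalizer (K : Set X)) : N ≤ normalizer ((⁅H, K⁆ : Subgroup X) : Set X) := by
  intro g hg
  refine Coprime.mem_normalizer_of_conj_smul_eq ?_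
  have h1 : MulAut.conj g • H = H := Coprime.conj_smul_eq_self_of_mem (hH hg)
  have h2 : MulAut.conj g • K = K := Coprime.conj_smul_eq_self_of_mem (hK hg)
  show Subgroup.map (MulAut.conj g).toMonoidHom ⁅H, K⁆ = _
  rw [map_commutator]
  exact congrArg₂ (fun a b => ⁅a, b⁆) h1 h2

theorem le_normalizer_centralizer' {H N : Subgroup X} (hH : N ≤ normalizer (H : Set X)) :
    N ≤ normalizer ((centralizer (H : Set X) : Subgroup X) : Set X) := by
  have h : ∀ g ∈ normalizer (H : Set X), ∀ c ∈ centralizer (H : Set X),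
      g * c * g⁻¹ ∈ centralizer (H : Set X) := fun g hg c hc => mem_centralizer_iff.2 fun v hv => by
    have h2 : g⁻¹ * v * g ∈ H := (mem_normalizer_iff''.1 hg v).1 hv
    calc v * (g * c * g⁻¹) = g * ((g⁻¹ * v * g) * c) * g⁻¹ := by group
      _ = g * (c * (g⁻¹ * v * g)) * g⁻¹ := by rw [mem_centralizer_iff.1 hc _ h2]
      _ = g * c * g⁻¹ * v := by group
  intro g hg
  rw [mem_normalizer_iff]
  refine fun c => ⟨h g (hH hg) c, fun hc => ?_⟩
  have := h g⁻¹ (inv_mem (hH hg)) _ hc
  rwa [inv_inv, show g⁻¹ * (g * c * g⁻¹) * g = c by group] at this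

/-- `⁅V, N⁆ ≤ S` can be checked on generators of `N`. -/
theorem commutator_le_of_forall {V N S : Subgroup X} {s : Set X} (hNs : N ≤ closure s)
    (hS : closure s ≤ normalizer (S : Set X))
    (h : ∀ v ∈ V, ∀ n ∈ s, ⁅v, n⁆ ∈ S) : ⁅V, N⁆ ≤ S := by
  refine commutator_le.2 fun v hv n hn => ?_
  suffices ∀ n ∈ closure s, ⁅v, n⁆ ∈ S from this n (hNs hn)
  intro n hn
  induction hn using closure_induction with
  | mem x hx => exact h v hv x hx
  | one => rw [commutatorElement_one_right]; exact one_mem S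
  | mul x y hx hy ihx ihy =>
      rw [show ⁅v, x * y⁆ = ⁅v, x⁆ * (x * ⁅v, y⁆ * x⁻¹) by
        simp only [commutatorElement_def]; group]
      exact mul_mem ihx ((mem_normalizer_iff.1 (hS hx) _).1 ihy)
  | inv x hx ihx =>
      rw [show ⁅v, x⁻¹⁆ = x⁻¹ * ⁅v, x⁆⁻¹ * x by simp only [commutatorElement_def]; group]
      exact (mem_normalizer_iff''.1 (hS hx) _).1 (inv_mem ihx)

variable [Finite X]

/-- An operator group `L` fixed-point-free on `U` and without fixed points on the abelian group `V`
forces `U` to centralise `V`. -/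
theorem le_centralizer_of_fpf {V U L : Subgroup X} [IsMulCommutative V]
    (hUV : U ≤ normalizer (V : Set X)) (hLV : L ≤ normalizer (V : Set X))
    (hLU : L ≤ normalizer (U : Set X)) (hcop : (Nat.card U).Coprime (Nat.card V))
    (hU : ∀ l ∈ L, l ≠ 1 → ∀ u ∈ U, l * u = u * l → u = 1)
    (hV : V ⊓ centralizer (L : Set X) = ⊥) : U ≤ centralizer (V : Set X) := by
  classical
  have := Fintype.ofFinite U
  have := Fintype.ofFinite L
  open scoped IsMulCommutative in
  suffices key : ∀ u₀ : U, ∀ v : V, (u₀ : X) * v = v * u₀ from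
    fun u hu => mem_centralizer_iff.2 fun v hv => (key ⟨u, hu⟩ ⟨v, hv⟩).symm
  open scoped IsMulCommutative in
  let N := normalizer (V : Set X)
  open scoped IsMulCommutative in
  let T : N → V →* V := fun g => MonoidHom.mk'
    (fun v => ⟨(g : X) * v * (g : X)⁻¹, (mem_normalizer_iff.1 g.2 _).1 v.2⟩)
    fun a b => Subtype.ext (by simp only [Subgroup.coe_mul]; group)
  open scoped IsMulCommutative in
  have Tmul : ∀ (g h : N) (v : V), T g (T h v) = T (g * h) v := fun g h v => Subtype.ext (by
    simp only [T, MonoidHom.mk'_apply, Subgroup.coe_mul]; group)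
  open scoped IsMulCommutative in
  let iU : U → N := fun u => ⟨u, hUV u.2⟩
  open scoped IsMulCommutative in
  let iL : L → N := fun l => ⟨l, hLV l.2⟩
  open scoped IsMulCommutative in
  intro u₀ v
  open scoped IsMulCommutative in
  let S : V →* V := ∏ u : U, T (iU u)
  open scoped IsMulCommutative in
  have Sapp : ∀ w : V, S w = ∏ u : U, T (iU u) w := fun w => by
    simp only [S, MonoidHom.finsetProd_apply]
  open scoped IsMulCommutative in
  have norm1 : ∀ w : V, ∏ l : L, T (iL l) w = 1 := by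
    intro w
    have hfix : ∀ m : L, T (iL m) (∏ l : L, T (iL l) w) = ∏ l : L, T (iL l) w := by
      intro m
      rw [map_prod]
      refine Fintype.prod_equiv (Equiv.mulLeft m) _ _ fun l => ?_
      rw [Tmul]
      rfl
    have hmem : ((∏ l : L, T (iL l) w : V) : X) ∈ V ⊓ centralizer (L : Set X) := by
      refine mem_inf.2 ⟨Subtype.prop _, mem_centralizer_iff.2 fun l hl => ?_⟩
      exact mul_inv_eq_iff_eq_mul.1 (congrArg Subtype.val (hfix ⟨l, hl⟩))
    rw [hV, mem_bot] at hmem
    exact Subtype.ext hmem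
  open scoped IsMulCommutative in
  have inner : ∀ l : L, l ≠ 1 →
      ∏ u : U, T (iU u * iL l * (iU u)⁻¹) v = S (T (iL l) v) := by
    intro l hl
    have hl' : (l : X) ≠ 1 := fun h => hl (Subtype.ext h)
    let φ : U → U := fun u =>
      u * ⟨(l : X) * (u : X)⁻¹ * (l : X)⁻¹, (mem_normalizer_iff.1 (hLU l.2) _).1 (inv_mem u.2)⟩
    have hφ : Function.Injective φ := by
      intro a b hab
      have e : (a : X) * ((l : X) * (a : X)⁻¹ * (l : X)⁻¹) =
          b * ((l : X) * (b : X)⁻¹ * (l : X)⁻¹) := congrArg Subtype.val hab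
      have e' : (a : X) * (l : X) * (a : X)⁻¹ = b * (l : X) * (b : X)⁻¹ :=
        calc (a : X) * (l : X) * (a : X)⁻¹ = (a : X) * ((l : X) * (a : X)⁻¹ * (l : X)⁻¹) * l := by group
          _ = b * ((l : X) * (b : X)⁻¹ * (l : X)⁻¹) * l := by rw [e]
          _ = _ := by group
      have hc : (l : X) * ((a : X)⁻¹ * b) = (a : X)⁻¹ * b * l := by
        calc (l : X) * ((a : X)⁻¹ * b) = (a : X)⁻¹ * ((a : X) * l * (a : X)⁻¹) * b := by group
          _ = (a : X)⁻¹ * ((b : X) * l * (b : X)⁻¹) * b := by rw [e']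
          _ = (a : X)⁻¹ * b * l := by group
      have h1 := hU l l.2 hl' _ (mul_mem (inv_mem a.2) b.2) hc
      exact Subtype.ext (inv_mul_eq_one.1 h1)
    rw [Sapp]
    refine Fintype.prod_bijective φ (Finite.injective_iff_bijective.1 hφ) _ _ fun u => ?_
    rw [Tmul]
    congr 2
    refine Subtype.ext ?_
    simp only [φ, iU, iL, Subgroup.coe_mul, Subgroup.coe_inv]
    group
  open scoped IsMulCommutative in
  have main : S v = v ^ Fintype.card U := by
    have h1 : ∀ u : U, ∏ l : L, T (iU u * iL l * (iU u)⁻¹) v = 1 := by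
      intro u
      have h2 := congrArg (T (iU u)) (norm1 (T (iU u)⁻¹ v))
      rw [map_prod, map_one] at h2
      rw [← h2]
      refine Finset.prod_congr rfl fun l _ => ?_
      rw [Tmul, Tmul, mul_assoc]
    have h2 : ∏ l : L, ∏ u : U, T (iU u * iL l * (iU u)⁻¹) v = 1 := by
      rw [Finset.prod_comm]
      exact Finset.prod_eq_one fun u _ => h1 u
    have h3 : S (∏ l : L, T (iL l) v) = 1 := by rw [norm1, map_one]
    rw [map_prod] at h3
    rw [← Finset.mul_prod_erase _ _ (Finset.mem_univ (1 : L))] at h2 h3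
    have hL1 : T (iL 1) v = v := Subtype.ext (by simp [T, iL])
    have h4 : ∏ u : U, T (iU u * iL 1 * (iU u)⁻¹) v = v ^ Fintype.card U := by
      rw [← Finset.card_univ, ← Finset.prod_const]
      refine Finset.prod_congr rfl fun u _ => Subtype.ext ?_
      simp only [T, iU, iL, MonoidHom.mk'_apply, Subgroup.coe_mul, Subgroup.coe_inv,
        Subgroup.coe_one]
      group
    rw [Finset.prod_congr rfl (fun l hl => inner l (Finset.ne_of_mem_erase hl)), h4] at h2
    rw [hL1] at h3
    exact (mul_right_cancel (h3.trans h2.symm))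
  open scoped IsMulCommutative in
  have fix : T (iU u₀) (S v) = S v := by
    rw [Sapp, map_prod]
    refine Fintype.prod_equiv (Equiv.mulLeft u₀) _ _ fun u => ?_
    rw [Tmul]
    rfl
  open scoped IsMulCommutative in
  rw [main, map_pow] at fix
  have hcopV : (Nat.card V).Coprime (Fintype.card U) := by
    rw [Nat.card_eq_fintype_card (α := U)] at hcop
    exact hcop.symm
  open scoped IsMulCommutative in
  have h5 : T (iU u₀) v = v := (powCoprime hcopV).injective fix
  exact mul_inv_eq_iff_eq_mul.1 (congrArg Subtype.val h5)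

/-- `le_centralizer_of_fpf` modulo a subgroup `S`. -/
theorem commutator_le_of_fpf {V U L S : Subgroup X} (hVS : V ≤ normalizer (S : Set X))
    (hUS : U ≤ normalizer (S : Set X)) (hLS : L ≤ normalizer (S : Set X))
    (hUV : U ≤ normalizer (V : Set X)) (hLV : L ≤ normalizer (V : Set X))
    (hLU : L ≤ normalizer (U : Set X)) (hcop : (Nat.card U).Coprime (Nat.card V))
    (hLc : Group.IsSolvable L) (hLUc : (Nat.card L).Coprime (Nat.card U))
    (hLVc : (Nat.card L).Coprime (Nat.card V)) (hab : ⁅V, V⁆ ≤ S)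
    (hU : ∀ l ∈ L, l ≠ 1 → ∀ u ∈ U, l * u = u * l → u = 1)
    (hV : V ⊓ centralizer (L : Set X) ≤ S) : ⁅V, U⁆ ≤ S := by
  let Y := normalizer (S : Set X)
  have : (S.subgroupOf Y).Normal := normal_in_normalizer
  let π := QuotientGroup.mk' (S.subgroupOf Y)
  have hmk : ∀ {y : Y}, π y = 1 ↔ (y : X) ∈ S := fun {y} => by
    rw [QuotientGroup.mk'_apply, QuotientGroup.eq_one_iff, mem_subgroupOf]
  let V' := V.subgroupOf Y
  let U' := U.subgroupOf Y
  let L' := L.subgroupOf Y
  have hn : ∀ {P Q : Subgroup X}, P ≤ normalizer (Q : Set X) →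
      (P.subgroupOf Y).map π ≤ normalizer (((Q.subgroupOf Y).map π : Subgroup _) : Set _) := by
    intro P Q h
    refine (map_mono ?_).trans (le_normalizer_map π)
    intro y hy
    exact mem_normalizer_iff.2 fun z => mem_normalizer_iff.1 (h (mem_subgroupOf.1 hy)) z
  haveI : IsMulCommutative (V'.map π) := ⟨⟨by
    rintro ⟨_, a, ha, rfl⟩ ⟨_, b, hb, rfl⟩
    refine Subtype.ext ?_
    show π a * π b = π b * π a
    rw [← commutatorElement_eq_one_iff_mul_comm, ← map_commutatorElement, hmk]
    exact hab (commutator_mem_commutator ha hb)⟩⟩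
  have hc : ∀ (P : Subgroup X), P ≤ Y → Nat.card ((P.subgroupOf Y).map π) ∣ Nat.card P :=
    fun P h => (card_map_dvd _ _).trans (Coprime.card_subgroupOf h).dvd
  have hLsol : Group.IsSolvable L' := Coprime.isSolvable_subgroupOf hLS hLc
  have key : U'.map π ≤ centralizer ((V'.map π : Subgroup _) : Set _) := by
    refine le_centralizer_of_fpf (hn hUV) (hn hLV) (hn hLU)
      ((hcop.coprime_dvd_left (hc U hUS)).coprime_dvd_right (hc V hVS)) ?_ ?_
    · rintro _ ⟨l, hl, rfl⟩ hl1 _ ⟨u, hu, rfl⟩ hlu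
      have hl' : (l : X) ≠ 1 := fun h => hl1 (by rw [show l = 1 from Subtype.ext h, map_one])
      have hlL : zpowers l ≤ L' := zpowers_le.2 hl
      have h := Coprime.map_inf_centralizer π (A := zpowers l) (K := U')
        (hlL.trans fun y hy => mem_normalizer_iff.2 fun z =>
          mem_normalizer_iff.1 (hLU (mem_subgroupOf.1 hy)) z)
        ((hLUc.coprime_dvd_left ((card_dvd_of_le hlL).trans (Coprime.card_subgroupOf hLS).dvd))
          |>.coprime_dvd_right (Coprime.card_subgroupOf hUS).dvd)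
        (Or.inl (Group.isSolvable_of_comm fun x y => mul_comm' x y))
      have hmem : π u ∈ U'.map π ⊓ centralizer (((zpowers l).map π : Subgroup _) : Set _) := by
        refine mem_inf.2 ⟨mem_map_of_mem π hu, ?_⟩
        rw [MonoidHom.map_zpowers, mem_centralizer_iff]
        rintro _ ⟨n, rfl⟩
        exact (Commute.zpow_left hlu n : _)
      rw [← h] at hmem
      obtain ⟨u', ⟨hu'U, hu'c⟩, he⟩ := hmem
      have hu1 : (u' : X) = 1 := hU l hl hl' u' hu'U
        (congrArg Subtype.val (mem_centralizer_iff.1 hu'c l (mem_zpowers l)))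
      rw [← he, show u' = 1 from Subtype.ext hu1, map_one]
    · have h := Coprime.map_inf_centralizer π (A := L') (K := V')
        (fun y hy => mem_normalizer_iff.2 fun z => mem_normalizer_iff.1 (hLV (mem_subgroupOf.1 hy)) z)
        (by rw [Coprime.card_subgroupOf hLS, Coprime.card_subgroupOf hVS]; exact hLVc)
        (Or.inl hLsol)
      rw [← h, eq_bot_iff]
      rintro _ ⟨v, ⟨hvV, hvc⟩, rfl⟩
      rw [mem_bot, hmk]
      exact hV ⟨hvV, mem_centralizer_iff.2 fun l hl =>
        congrArg Subtype.val (mem_centralizer_iff.1 hvc ⟨l, hLS hl⟩ hl)⟩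
  refine commutator_le.2 fun v hv u hu => ?_
  have h1 := mem_centralizer_iff.1 (key (mem_map_of_mem π (x := ⟨u, hUS hu⟩) hu)) _
    (mem_map_of_mem π (x := (⟨v, hVS hv⟩ : Y)) hv)
  rw [← commutatorElement_eq_one_iff_mul_comm, ← map_commutatorElement, hmk] at h1
  exact h1

/-- `le_centralizer_of_fpf` for a `p`-group `V`. -/
theorem le_centralizer_of_fpf_pgroup {p : ℕ} [Fact p.Prime] {V U L : Subgroup X} (hVp : IsPGroup p V)
    (hUV : U ≤ normalizer (V : Set X)) (hLV : L ≤ normalizer (V : Set X))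
    (hLU : L ≤ normalizer (U : Set X)) (hcop : (Nat.card U).Coprime (Nat.card V))
    (hLc : Group.IsSolvable L) (hLUc : (Nat.card L).Coprime (Nat.card U))
    (hLVc : (Nat.card L).Coprime (Nat.card V))
    (hU : ∀ l ∈ L, l ≠ 1 → ∀ u ∈ U, l * u = u * l → u = 1)
    (hV : V ⊓ centralizer (L : Set X) = ⊥) : U ≤ centralizer (V : Set X) := by
  set Φ := (frattini V).map V.subtype with hΦ
  have hΦV : Φ ≤ V := map_subtype_le _
  have hN : normalizer (V : Set X) ≤ normalizer (Φ : Set X) :=
    Components.normalizer_le_normalizer_map_of_characteristic V (frattini V)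
  have := hVp.isNilpotent
  have hab : ⁅V, V⁆ ≤ Φ := by
    have h1 : commutator V ≤ frattini V := PGroup.commutator_le_frattini hVp
    rw [← map_subtype_commutator]
    exact map_mono h1
  have h : ⁅V, U⁆ ≤ Φ := commutator_le_of_fpf (le_normalizer.trans hN) (hUV.trans hN) (hLV.trans hN)
    hUV hLV hLU hcop hLc hLUc hLVc hab hU (hV.le.trans bot_le)
  refine Coprime.le_centralizer_of_frattini hUV (hcop.coprime_dvd_right (card_subgroup_dvd_card _))
    fun u hu v hv => ?_
  have h1 : ⁅u, v⁆ ∈ Φ := by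
    rw [← commutatorElement_inv]
    exact inv_mem (h (commutator_mem_commutator hv hu))
  exact h1

/-- A `p`-group with `V = [V, D]` lies in any subgroup containing generators modulo `Φ(V)`. -/
theorem inf_centralizer_le_frattini {p : ℕ} [Fact p.Prime] {V D : Subgroup X} (hVp : IsPGroup p V)
    (hDV : D ≤ normalizer (V : Set X)) (hDc : Group.IsSolvable D)
    (hcop : (Nat.card D).Coprime (Nat.card V)) (hVD : ⁅V, D⁆ = V) :
    V ⊓ centralizer (D : Set X) ≤ (frattini V).map V.subtype := by
  set Φ := (frattini V).map V.subtype with hΦ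
  have hN : normalizer (V : Set X) ≤ normalizer (Φ : Set X) :=
    Components.normalizer_le_normalizer_map_of_characteristic V (frattini V)
  have := hVp.isNilpotent
  have hab : ⁅V, V⁆ ≤ Φ := by
    have h1 : commutator V ≤ frattini V := PGroup.commutator_le_frattini hVp
    rw [← map_subtype_commutator]
    exact map_mono h1
  let Y := normalizer (Φ : Set X)
  have : (Φ.subgroupOf Y).Normal := normal_in_normalizer
  let π := QuotientGroup.mk' (Φ.subgroupOf Y)
  have hmk : ∀ {y : Y}, π y = 1 ↔ (y : X) ∈ Φ := fun {y} => by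
    rw [QuotientGroup.mk'_apply, QuotientGroup.eq_one_iff, mem_subgroupOf]
  have hVY : V ≤ Y := le_normalizer.trans hN
  have hDY : D ≤ Y := hDV.trans hN
  let V' := V.subgroupOf Y
  let D' := D.subgroupOf Y
  haveI : IsMulCommutative (V'.map π) := ⟨⟨by
    rintro ⟨_, a, ha, rfl⟩ ⟨_, b, hb, rfl⟩
    refine Subtype.ext ?_
    show π a * π b = π b * π a
    rw [← commutatorElement_eq_one_iff_mul_comm, ← map_commutatorElement, hmk]
    exact hab (commutator_mem_commutator ha hb)⟩⟩
  have hDV' : D'.map π ≤ normalizer ((V'.map π : Subgroup _) : Set _) :=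
    (map_mono fun y hy => mem_normalizer_iff.2 fun z =>
      mem_normalizer_iff.1 (hDV (mem_subgroupOf.1 hy)) z).trans (le_normalizer_map π)
  have hbot := Coprime.inf_centralizer_inf_commutator_eq_bot (A := D'.map π) (V := V'.map π) hDV'
    ((hcop.coprime_dvd_left ((card_map_dvd _ _).trans (Coprime.card_subgroupOf hDY).dvd))
      |>.coprime_dvd_right ((card_map_dvd _ _).trans (Coprime.card_subgroupOf hVY).dvd))
  have hcomm : ⁅V'.map π, D'.map π⁆ = V'.map π := by
    rw [← map_commutator]
    congr 1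
    apply map_injective Y.subtype_injective
    rw [map_commutator, map_subgroupOf_eq_of_le hVY, map_subgroupOf_eq_of_le hDY, hVD]
  intro v hv
  have h1 : π ⟨v, hVY hv.1⟩ ∈ (V'.map π ⊓ centralizer ((D'.map π : Subgroup _) : Set _)) ⊓
      ⁅V'.map π, D'.map π⁆ := by
    have h2 : π ⟨v, hVY hv.1⟩ ∈ V'.map π := mem_map_of_mem π hv.1
    rw [hcomm]
    refine mem_inf.2 ⟨mem_inf.2 ⟨h2, mem_centralizer_iff.2 ?_⟩, h2⟩
    rintro _ ⟨d, hd, rfl⟩
    rw [← map_mul, ← map_mul]
    exact congrArg π (Subtype.ext (mem_centralizer_iff.1 hv.2 d hd))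
  rw [hbot, mem_bot, hmk] at h1
  exact h1

/-- Frattini argument inside a subgroup. -/
theorem frattini_sup {p : ℕ} [Fact p.Prime] {H T S : Subgroup X} (hTH : T ≤ H)
    (hHT : H ≤ normalizer (T : Set X)) (hST : S ≤ T) (hS : IsPGroup p S)
    (hmax : ¬ p ∣ S.relIndex T) : H ≤ T ⊔ (H ⊓ normalizer (S : Set X)) := by
  have hN : (T.subgroupOf H).Normal := (normal_subgroupOf_iff_le_normalizer hTH).2 hHT
  let N := T.subgroupOf H
  let Q := (S.subgroupOf H).subgroupOf N
  have hQ : IsPGroup p Q := (hS.comap_subtype).comap_subtype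
  have hidx : ¬ p ∣ Q.index := by
    show ¬ p ∣ (S.subgroupOf H).relIndex (T.subgroupOf H)
    rwa [relIndex_subgroupOf hTH]
  let P : Sylow p N := hQ.toSylow hidx
  have h := Sylow.normalizer_sup_eq_top P
  have hP : ((P : Subgroup N).map N.subtype) = S.subgroupOf H := by
    show Q.map N.subtype = _
    exact map_subgroupOf_eq_of_le fun x hx => hST (mem_subgroupOf.1 hx)
  rw [hP] at h
  intro x hx
  have hx' : (⟨x, hx⟩ : H) ∈ normalizer ((S.subgroupOf H : Subgroup H) : Set H) ⊔ N :=
    h ▸ mem_top _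
  rw [mem_sup_of_normal_right] at hx'
  obtain ⟨n, hn, t, ht, hnt⟩ := hx'
  have hnS : (n : X) ∈ normalizer (S : Set X) := by
    refine mem_normalizer_iff.2 fun s => ?_
    constructor
    · intro hs
      exact (mem_normalizer_iff.1 hn ⟨s, hTH (hST hs)⟩).1 hs
    · intro hs
      have hsH : s ∈ H := by
        have := H.mul_mem (H.mul_mem (H.inv_mem n.2) (hTH (hST hs))) n.2
        rwa [show (n : X)⁻¹ * (n * s * (n : X)⁻¹) * n = s by group] at this
      exact (mem_normalizer_iff.1 hn ⟨s, hsH⟩).2 hs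
  rw [← show ((n : X) * t) = x from congrArg Subtype.val hnt]
  exact mul_mem (mem_sup_right ⟨n.2, hnS⟩) (mem_sup_left ht)

end Cfsg.Agent.AbelianCent
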