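import Cfsg.Agent.Lib.AbelianCent.TypeTwo
import Cfsg.Agent.Lib.OddOrder.MaximalSubgroups
import Cfsg.Agent.Lib.Transfer.Frobenius
import Cfsg.Agent.Lib.PComplement.GlaubermanThompson

/-!
# A noncyclic group of order `q²` with abelian fixed points acts on solvable groups only

`IsSetting.isSolvable`: if `A` of order `q²` and exponent `q` acts coprimely on `G` and every `C_G(a)`,
`a ≠ 1`, is abelian then `G` is solvable. No classification and no odd order theorem are used.
-/

namespace Cfsg.Agent.AbelianCent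

open Subgroup
open scoped Pointwise commutatorElement

universe u

variable {X : Type u} [Group X] [Finite X] {A G : Subgroup X} {q : ℕ}

/-- There is no minimal counterexample. -/
theorem IsMinimal.elim (hm : IsMinimal A G q) : False := by
  -- an odd prime divisor of the order
  obtain ⟨p, hp, hp2, hpG⟩ : ∃ p : ℕ, p.Prime ∧ p ≠ 2 ∧ p ∣ Nat.card G := by
    by_contra h
    push Not at h
    have h2 : IsPGroup 2 G := by
      refine IsPGroup.of_card (n := (Nat.card G).primeFactorsList.length) ?_
      refine Nat.eq_prime_pow_of_unique_prime_dvd Nat.card_pos.ne' fun {d} hd hdd => ?_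
      by_contra hne
      exact h d hd hne hdd
    haveI := Fact.mk Nat.prime_two
    haveI := h2.isNilpotent
    exact hm.not_solvable inferInstance
  haveI := Fact.mk hp
  set R := syl A G p with hR
  have hRp : IsPGroup p R := hm.isPGroup_syl
  have hR1 : R ≠ ⊥ := fun h => by
    have h1 := hm.pow_dvd_card_inf_syl (r := p) le_rfl hm.inv (k := 1) (by simpa using hpG)
    rw [inf_eq_right.2 syl_le, ← hR, h, card_bot, pow_one] at h1
    exact hp.ne_one (Nat.dvd_one.1 h1)
  set Z := Cfsg.centerThompsonOf p R with hZ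
  have hZR : Z ≤ R := OddOrder.zj_le R
  have hZA : A ≤ normalizer (Z : Set X) := hm.inv_syl.trans (OddOrder.normalizer_le_normalizer_zj R)
  have hZ1 : Z ≠ ⊥ := OddOrder.zjOf_ne_bot hRp hR1
  have hN := hm.proper_normalizer (hZR.trans syl_le) hZA hZ1
    fun h => hm.syl_ne_top (r := p) (le_antisymm syl_le (h.ge.trans hZR))
  obtain ⟨M, hM, hNM⟩ := hm.exists_max hN
  -- some Sylow intersection acts nontrivially on `O_p(M)`
  obtain ⟨u, hu, hup, hact⟩ : ∃ u : ℕ, u.Prime ∧ u ≠ p ∧
      ¬ M ⊓ syl A G u ≤ centralizer (OddOrder.pOf p M : Set X) := by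
    by_contra h
    push Not at h
    set U := OddOrder.pOf p M with hU
    set C := M ⊓ centralizer (U : Set X) with hC
    haveI hCn : (C.subgroupOf M).Normal := (normal_subgroupOf_iff_le_normalizer inf_le_left).2
      (Coprime.le_normalizer_inf_of_le le_normalizer
        (le_normalizer_centralizer' (OddOrder.le_normalizer_pOf M)))
    have hidx : ∀ v : ℕ, v.Prime → v ∣ C.relIndex M → v = p := by
      intro v hv hd
      by_contra hvp
      haveI := Fact.mk hv
      exact hm.not_dvd_relIndex (r := v) hM.le hM.inv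
        (hd.trans (relIndex_dvd_of_le_left M (le_inf inf_le_left (h v hv hvp))))
    have hcent : ∀ g ∈ M, Nat.Coprime (orderOf g) p → g ∈ C := by
      intro g hg hco
      have h1 : (⟨g, hg⟩ : M) ^ C.relIndex M ∈ C.subgroupOf M := pow_index_mem (C.subgroupOf M) _
      have hcop : (orderOf (⟨g, hg⟩ : M)).Coprime (C.relIndex M) := by
        rw [Subgroup.orderOf_mk]
        refine Nat.coprime_of_dvd fun v hv hv1 hv2 => ?_
        rw [hidx v hv hv2] at hv1
        exact (hp.coprime_iff_not_dvd.1 hco.symm) hv1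
      have hmem : (⟨g, hg⟩ : M) ∈ zpowers ((⟨g, hg⟩ : M) ^ C.relIndex M) :=
        mem_zpowers_pow_iff.mpr hcop.symm
      exact mem_subgroupOf.1 ((zpowers_le.2 h1) hmem)
    obtain ⟨P, hP, -⟩ := hm.exists_sylow_eq (r := p)
    refine hm.not_hasNormalPComplement (r := p) hpG (PComplement.zjComplement hp2 P ?_)
    set N₀ := normalizer (Cfsg.centerThompsonOf p (P : Subgroup G) : Set G) with hN₀
    have hmap : (Cfsg.centerThompsonOf p (P : Subgroup G)).map G.subtype = Z := by
      have h1 := Replacement.centerThompsonOf_map_injOn (p := p) G.subtype (P := (P : Subgroup G))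
        fun x _ hx => G.subtype_injective (hx.trans (map_one _).symm)
      rw [hP] at h1
      exact h1.symm
    have hN₀M : ∀ y ∈ N₀, (y : X) ∈ M := fun y hy => hNM ⟨y.2, mem_normalizer_of_forall fun z hz => by
      rw [← hmap] at hz ⊢
      obtain ⟨w, hw, rfl⟩ := hz
      exact ⟨y * w * y⁻¹, (mem_normalizer_iff.1 hy w).1 hw, rfl⟩⟩
    obtain ⟨P₀⟩ := (inferInstance : Nonempty (Sylow p N₀))
    refine Transfer.hasNormalPComplement_of_centralizer P₀ fun Q hQ g hg hco => ?_
    refine mem_centralizer_iff.2 fun x hx => ?_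
    have hgM : ((g : G) : X) ∈ M := hN₀M _ g.2
    have hxM : ((x : G) : X) ∈ M := hN₀M _ x.2
    have hco' : Nat.Coprime (orderOf ((g : G) : X)) p := by
      rwa [Subgroup.orderOf_coe, Subgroup.orderOf_coe]
    set g' : X := ((g : G) : X)
    set x' : X := ((x : G) : X)
    have hgc := hcent g' hgM hco'
    have hz : g' * x' * g'⁻¹ * x'⁻¹ ∈ U := by
      have hQ' : g * x * g⁻¹ * x⁻¹ ∈ Q :=
        mul_mem ((mem_normalizer_iff.1 hg x).1 hx) (inv_mem hx)
      obtain ⟨k, hk⟩ := P₀.2 ⟨_, hQ hQ'⟩
      refine OddOrder.mem_pOf ?_ (k := k) ?_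
      · exact hm.commutator_le_fittingOf hM.toIsProper (commutator_mem_commutator hgM hxM)
      · exact congrArg (fun y : N₀ => ((y : G) : X)) (congrArg Subtype.val hk)
    obtain ⟨m, hm'⟩ := (OddOrder.isPGroup_pOf M : IsPGroup p U).exists_card_eq
    have hcu : Commute g' (g' * x' * g'⁻¹ * x'⁻¹) := (mem_centralizer_iff.1 hgc.2 _ hz).symm
    have hcop : (orderOf g').Coprime (orderOf (g' * x' * g'⁻¹ * x'⁻¹)) :=
      ((hco'.pow_right m).coprime_dvd_right (hm' ▸ Subgroup.orderOf_dvd_natCard U hz))
    have e : g' * x' = x' * g' :=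
      Coprime.commute_of_translate (show g' * x' * g'⁻¹ = (g' * x' * g'⁻¹ * x'⁻¹) * x' by group) hcu hcop
    exact Subtype.ext (Subtype.ext e.symm)
  haveI := Fact.mk hu
  refine hm.false_of_fix_le hup hM.toIsProper inf_le_left (OddOrder.pOf_le M) (hm.inv_inf_syl hM.inv)
    (hm.inv_pOf hM.toIsProper) (hm.isPGroup_inf_syl M) (OddOrder.isPGroup_pOf M)
    (inf_le_left.trans (OddOrder.le_normalizer_pOf M)) hact fun k hk hne => ?_
  set U := OddOrder.pOf p M with hU
  have hUG : U ≤ G := (OddOrder.pOf_le M).trans hM.le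
  have hYA : A ≤ normalizer (fix U k : Set X) := hm.inv_fix (hm.inv_pOf hM.toIsProper) hk.1
  obtain ⟨L, hL, hle⟩ := hm.exists_max (hm.proper_centralizer (inf_le_left.trans hUG) hYA hne)
  obtain ⟨r, hr, hn⟩ : ∃ r : ℕ, r.Prime ∧ ¬ AbAt A G r L := by
    by_contra h
    push Not at h
    exact hm.false_of_isTwo ⟨hL, h⟩
  haveI := Fact.mk hr
  have hLM := hM.eq_of_centralizer_le hm hL hn inf_le_left hYA hne
    (hm.fix_le_centralizer hUG hUG hk) hle
  exact (le_inf inf_le_left (hm.fix_le_centralizer le_rfl hUG hk)).trans (hle.trans hLM.le)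

omit [Finite X] in
theorem isSolvable_aux (n : ℕ) : ∀ (X : Type u) [Group X] [Finite X] (A G : Subgroup X) (q : ℕ),
    IsSetting A G q → Nat.card G = n → Group.IsSolvable G := by
  induction n using Nat.strong_induction_on with
  | _ n ih =>
  intro X _ _ A G q hS hn
  by_contra hns
  have hproper : ∀ H ≤ G, A ≤ normalizer (H : Set X) → H ≠ G → Group.IsSolvable H := fun H hH hHA hne =>
    ih _ (hn ▸ lt_of_le_of_ne (card_le_of_le hH) fun h => hne (eq_of_le_of_card_ge hH h.ge))
      X A H q (hS.mono hH hHA) rfl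
  have hnormal : ∀ N ≤ G, A ≤ normalizer (N : Set X) → G ≤ normalizer (N : Set X) → N = ⊥ ∨ N = G := by
    intro N hNG hNA hGN
    by_contra h
    push Not at h
    obtain ⟨hN1, hN2⟩ := h
    set Y := G ⊔ A with hY
    haveI : (N.subgroupOf Y).Normal :=
      (normal_subgroupOf_iff_le_normalizer (hNG.trans le_sup_left)).2 (sup_le hGN hNA)
    set π := QuotientGroup.mk' (N.subgroupOf Y)
    have hS' := hS.subgroupOf (Y := Y) le_sup_right le_sup_left
    have hk : A.subgroupOf Y ⊓ π.ker = ⊥ := by
      rw [QuotientGroup.ker_mk']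
      exact Coprime.disjoint_of_coprime_card
        (hS'.coprime le_rfl fun x hx => mem_subgroupOf.2 (hNG (mem_subgroupOf.1 hx)))
    set G' := (G.subgroupOf Y).map π
    have hlt : Nat.card G' < n := by
      rw [← hn, ← Coprime.card_subgroupOf (le_sup_left : G ≤ Y)]
      refine lt_of_le_of_ne (Nat.le_of_dvd Nat.card_pos (card_map_dvd _ π)) fun h => hN1 ?_
      have hinj : Function.Injective (π.subgroupMap (G.subgroupOf Y)) :=
        ((Nat.bijective_iff_surjective_and_card _).2 ⟨π.subgroupMap_surjective _, h.symm⟩).1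
      refine eq_bot_iff.2 fun x hx => ?_
      have h2 : π.subgroupMap (G.subgroupOf Y)
          ⟨⟨x, mem_sup_left (hNG hx)⟩, mem_subgroupOf.2 (hNG hx)⟩ = 1 :=
        Subtype.ext ((QuotientGroup.eq_one_iff _).2 hx)
      rw [← map_one (π.subgroupMap (G.subgroupOf Y)), hinj.eq_iff] at h2
      exact mem_bot.2 (congrArg (fun y : G.subgroupOf Y => ((y : Y) : X)) h2)
    haveI hq := ih _ hlt (Y ⧸ N.subgroupOf Y) _ _ q (hS'.map π hk) rfl
    haveI := hproper N hNG hNA hN2
    refine hns ?_
    -- extension of solvable groups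
    let f : G →* G' := (π.subgroupMap (G.subgroupOf Y)).comp
      (subgroupOfEquivOfLe (le_sup_left : G ≤ Y)).symm.toMonoidHom
    refine Group.isSolvable_of_ker_le_range (inclusion hNG) f fun x hx => ?_
    have h1 : π ⟨(x : X), mem_sup_left x.2⟩ = 1 := congrArg Subtype.val hx
    rw [QuotientGroup.mk'_apply, QuotientGroup.eq_one_iff] at h1
    exact ⟨⟨x, h1⟩, rfl⟩
  have hA : fix G A = ⊥ := by
    have hc : fix G A ≤ centralizer (G : Set X) := by
      refine le_centralizer_iff.1 (hS.le_of_fix_le le_rfl hS.inv fun L hL => ?_)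
      exact le_centralizer_iff.1 fun x hx =>
        hS.fix_le_centralizer le_rfl le_rfl hL ⟨hx.1, centralizer_le (SetLike.coe_subset_coe.2 hL.1) hx.2⟩
    rcases hnormal _ inf_le_left (hS.inv_fix hS.inv le_rfl)
      (le_centralizer_iff.1 hc |>.trans (centralizer_le_normalizer _)) with h | h
    · exact h
    · refine absurd (Group.isSolvable_of_comm fun a b => Subtype.ext ?_) hns
      exact (mem_centralizer_iff.1 (((inf_eq_left.1 h).trans' le_rfl |> fun h' => hc ⟨b.2, h' b.2⟩)) a a.2)
  exact IsMinimal.elim ⟨hS, hA, hnormal, hproper, hns⟩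

/-- A coprime noncyclic group of order `q²` with abelian fixed points acts on solvable groups only. -/
theorem IsSetting.isSolvable (hS : IsSetting A G q) : Group.IsSolvable G :=
  isSolvable_aux (Nat.card G) X A G q hS rfl

end Cfsg.Agent.AbelianCent
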