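import Cfsg.Agent.Lib.AbelianCent.Derived
import Cfsg.Agent.Lib.Coprime.Factorization
import Cfsg.Agent.Lib.Transfer.Residual
import Cfsg.Agent.Lib.PGroup.Basic

/-!
# The minimal counterexample

`IsMinimal A G q`, its invariant Sylow subgroups `syl A G r`, maximal invariant subgroups, and the
product argument: no proper invariant subgroup with a nontrivial coprime action inside contains the
fixed points of all lines but one.
-/

namespace Cfsg.Agent.AbelianCent

open Subgroup
open scoped Pointwise commutatorElement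

universe u

variable {X : Type u} [Group X] {A G : Subgroup X} {q r : ℕ}

/-- The minimal counterexample. -/
structure IsMinimal (A G : Subgroup X) (q : ℕ) : Prop extends IsSetting A G q where
  fixA : fix G A = ⊥
  normal : ∀ N ≤ G, A ≤ normalizer (N : Set X) → G ≤ normalizer (N : Set X) → N = ⊥ ∨ N = G
  solvable : ∀ H ≤ G, A ≤ normalizer (H : Set X) → H ≠ G → Group.IsSolvable H
  not_solvable : ¬ Group.IsSolvable G

/-- A proper invariant subgroup. -/
structure IsProper (A G H : Subgroup X) : Prop where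
  le : H ≤ G
  inv : A ≤ normalizer (H : Set X)
  ne : H ≠ G

/-- A maximal proper invariant subgroup. -/
structure IsMax (A G M : Subgroup X) : Prop extends IsProper A G M where
  eq_of_le : ∀ H, IsProper A G H → M ≤ H → H = M

/-- The `A`-invariant Sylow `r`-subgroup (when it is unique). -/
def syl (A G : Subgroup X) (r : ℕ) : Subgroup X :=
  ⨆ P : {P : Subgroup X // P ≤ G ∧ A ≤ normalizer (P : Set X) ∧ IsPGroup r P}, (P : Subgroup X)

theorem le_syl {P : Subgroup X} (h1 : P ≤ G) (h2 : A ≤ normalizer (P : Set X)) (h3 : IsPGroup r P) :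
    P ≤ syl A G r :=
  le_iSup (fun Q : {P : Subgroup X // P ≤ G ∧ A ≤ normalizer (P : Set X) ∧ IsPGroup r P} =>
    (Q : Subgroup X)) ⟨P, h1, h2, h3⟩

theorem syl_le : syl A G r ≤ G := iSup_le fun P => P.2.1

variable [Finite X]

theorem IsMinimal.mono (hm : IsMinimal A G q) {H : Subgroup X} (hH : IsProper A G H) :
    IsSetting A H q :=
  hm.toIsSetting.mono hH.le hH.inv

theorem IsMinimal.fixA_of_le (hm : IsMinimal A G q) {H : Subgroup X} (hH : H ≤ G) : fix H A = ⊥ :=
  eq_bot_iff.2 ((fix_mono hH).trans hm.fixA.le)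

theorem IsMinimal.center_eq_bot (hm : IsMinimal A G q) : G ⊓ centralizer (G : Set X) = ⊥ := by
  rcases hm.normal _ inf_le_left
    (Coprime.le_normalizer_inf_of_le hm.inv (le_normalizer_centralizer' hm.inv))
    (Coprime.le_normalizer_inf_of_le le_normalizer
      (le_normalizer_centralizer' le_normalizer)) with h | h
  · exact h
  · refine absurd (Group.isSolvable_of_comm fun a b => Subtype.ext ?_) hm.not_solvable
    exact (mem_centralizer_iff.1 ((inf_eq_left.1 h) b.2) a a.2)

theorem IsMinimal.proper_centralizer (hm : IsMinimal A G q) {K : Subgroup X} (hK : K ≤ G)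
    (hKA : A ≤ normalizer (K : Set X)) (h1 : K ≠ ⊥) : IsProper A G (G ⊓ centralizer (K : Set X)) :=
  ⟨inf_le_left, Coprime.le_normalizer_inf_of_le hm.inv (le_normalizer_centralizer' hKA), fun h =>
    h1 (eq_bot_iff.2 fun k hk => by
      rw [← hm.center_eq_bot]
      exact ⟨hK hk, le_centralizer_iff.1 (inf_eq_left.1 h) hk⟩)⟩

theorem IsMinimal.proper_normalizer (hm : IsMinimal A G q) {K : Subgroup X} (hK : K ≤ G)
    (hKA : A ≤ normalizer (K : Set X)) (h1 : K ≠ ⊥) (h2 : K ≠ G) :
    IsProper A G (G ⊓ normalizer (K : Set X)) :=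
  ⟨inf_le_left, Coprime.le_normalizer_inf_normalizer hm.inv hKA, fun h =>
    (hm.normal K hK hKA (inf_eq_left.1 h)).elim h1 h2⟩

/-- The invariant Sylow subgroup. -/
theorem IsMinimal.exists_sylow_eq (hm : IsMinimal A G q) [Fact r.Prime] :
    ∃ P : Sylow r G, (P : Subgroup G).map G.subtype = syl A G r ∧
      A ≤ normalizer (((P : Subgroup G).map G.subtype : Subgroup X) : Set X) := by
  have hs : Group.IsSolvable A ∨ Group.IsSolvable G := Or.inl (hm.isSolvable_A le_rfl)
  obtain ⟨P, hP⟩ := Coprime.exists_invariant_sylow hm.inv (hm.coprime le_rfl le_rfl) hs r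
  refine ⟨P, le_antisymm (le_syl (map_subtype_le _) hP (P.2.map _)) (iSup_le ?_), hP⟩
  rintro ⟨U, hU, hUA, hUp⟩
  obtain ⟨Q, hUQ, hQ⟩ :=
    Coprime.exists_invariant_sylow_ge hm.inv (hm.coprime le_rfl le_rfl) hs hU hUp hUA
  obtain ⟨c, hc, hcP⟩ :=
    Coprime.exists_centralizer_smul_sylow hm.inv (hm.coprime le_rfl le_rfl) hs P Q hP hQ
  have hc1 : c = 1 := Subtype.ext (mem_bot.1 (hm.fixA ▸ ⟨c.2, hc⟩))
  rw [hc1, one_smul] at hcP
  exact hcP ▸ hUQ

theorem IsMinimal.isPGroup_syl (hm : IsMinimal A G q) [Fact r.Prime] : IsPGroup r (syl A G r) := by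
  obtain ⟨P, hP, -⟩ := hm.exists_sylow_eq (r := r)
  rw [← hP]
  exact P.2.map _

theorem IsMinimal.inv_syl (hm : IsMinimal A G q) [Fact r.Prime] :
    A ≤ normalizer (syl A G r : Set X) := by
  obtain ⟨P, hP, hA⟩ := hm.exists_sylow_eq (r := r)
  rwa [hP] at hA

theorem IsMinimal.inv_inf_syl (hm : IsMinimal A G q) [Fact r.Prime] {H : Subgroup X}
    (hH : A ≤ normalizer (H : Set X)) : A ≤ normalizer ((H ⊓ syl A G r : Subgroup X) : Set X) :=
  Coprime.le_normalizer_inf_of_le hH hm.inv_syl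

theorem IsMinimal.isPGroup_inf_syl (hm : IsMinimal A G q) [Fact r.Prime] (H : Subgroup X) :
    IsPGroup r (H ⊓ syl A G r : Subgroup X) :=
  hm.isPGroup_syl.to_le inf_le_right

theorem IsMinimal.syl_ne_top (hm : IsMinimal A G q) [Fact r.Prime] : syl A G r ≠ G := fun h => by
  have hp : IsPGroup r (syl A G r) := hm.isPGroup_syl
  rw [h] at hp
  haveI := hp.isNilpotent
  exact hm.not_solvable inferInstance

theorem IsMinimal.pow_dvd_card_inf_syl (hm : IsMinimal A G q) [Fact r.Prime] {H : Subgroup X}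
    (hH : H ≤ G) (hHA : A ≤ normalizer (H : Set X)) {k : ℕ} (hk : r ^ k ∣ Nat.card H) :
    r ^ k ∣ Nat.card (H ⊓ syl A G r : Subgroup X) := by
  obtain ⟨P, hP⟩ := Coprime.exists_invariant_sylow hHA (hm.coprime le_rfl hH)
    (Or.inl (hm.isSolvable_A le_rfl)) r
  have h1 : (P : Subgroup H).map H.subtype ≤ H ⊓ syl A G r :=
    le_inf (map_subtype_le _) (le_syl ((map_subtype_le _).trans hH) hP (P.2.map _))
  refine dvd_trans ?_ (card_dvd_of_le h1)
  rw [card_map_of_injective H.subtype_injective, P.card_eq_multiplicity]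
  exact pow_dvd_pow r ((Fact.out : r.Prime).pow_dvd_iff_le_factorization Nat.card_pos.ne' |>.1 hk)

theorem IsMinimal.not_dvd_relIndex (hm : IsMinimal A G q) [Fact r.Prime] {H : Subgroup X}
    (hH : H ≤ G) (hHA : A ≤ normalizer (H : Set X)) :
    ¬ r ∣ (H ⊓ syl A G r).relIndex H := by
  intro h
  obtain ⟨k, hk⟩ := (hm.isPGroup_inf_syl (r := r) H).exists_card_eq
  have h1 : Nat.card (H ⊓ syl A G r : Subgroup X) * (H ⊓ syl A G r).relIndex H = Nat.card H := by
    rw [← Coprime.card_subgroupOf (inf_le_left : H ⊓ syl A G r ≤ H)]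
    exact card_mul_index _
  have h2 := hm.pow_dvd_card_inf_syl (r := r) hH hHA (k := k + 1)
    (by rw [← h1, hk, pow_succ]; exact mul_dvd_mul_left _ h)
  rw [hk] at h2
  have := Nat.le_of_dvd (pow_pos (Fact.out : r.Prime).pos _) h2
  have h3 : r ^ k < r ^ (k + 1) := Nat.pow_lt_pow_right (Fact.out : r.Prime).one_lt (by omega)
  omega

/-- Invariant subgroups are generated by their Sylow intersections. -/
theorem IsMinimal.le_of_syl_le (hm : IsMinimal A G q) {H S : Subgroup X}
    (hH : H ≤ G) (hHA : A ≤ normalizer (H : Set X))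
    (h : ∀ r : ℕ, r.Prime → H ⊓ syl A G r ≤ S) : H ≤ S := by
  refine (Coprime.eq_of_forall_invariant_pgroup_le (S := S ⊓ H) hHA (hm.coprime le_rfl hH)
    (Or.inl (hm.isSolvable_A le_rfl)) inf_le_right fun p P hp hP hPH hPA => le_inf ?_ hPH).ge.trans
    inf_le_left
  exact (le_inf hPH (le_syl (hPH.trans hH) hPA hP)).trans (h p hp)

theorem IsMinimal.exists_max (hm : IsMinimal A G q) {H : Subgroup X} (hH : IsProper A G H) :
    ∃ M, IsMax A G M ∧ H ≤ M := by
  obtain ⟨M, hle, hM⟩ := (Set.toFinite {K : Subgroup X | IsProper A G K}).exists_le_maximal hH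
  exact ⟨M, ⟨hM.1, fun K hK hMK => le_antisymm (hM.2 hK hMK) hMK⟩, hle⟩

theorem IsMax.normalizer_eq (hm : IsMinimal A G q) {M K : Subgroup X} (hM : IsMax A G M)
    (hK : K ≤ M) (hKA : A ≤ normalizer (K : Set X)) (h1 : K ≠ ⊥)
    (hMK : M ≤ normalizer (K : Set X)) : G ⊓ normalizer (K : Set X) = M :=
  hM.eq_of_le _ (hm.proper_normalizer (hK.trans hM.le) hKA h1
    fun h => hM.ne (le_antisymm hM.le (h ▸ hK))) (le_inf hM.le hMK)

theorem IsMax.centralizer_eq (hm : IsMinimal A G q) {M K : Subgroup X} (hM : IsMax A G M)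
    (hK : K ≤ G) (hKA : A ≤ normalizer (K : Set X)) (h1 : K ≠ ⊥)
    (hMK : M ≤ centralizer (K : Set X)) : G ⊓ centralizer (K : Set X) = M :=
  hM.eq_of_le _ (hm.proper_centralizer hK hKA h1) (le_inf hM.le hMK)

theorem IsMinimal.commutator_le_fittingOf (hm : IsMinimal A G q) {H : Subgroup X}
    (hH : IsProper A G H) : ⁅H, H⁆ ≤ fittingOf H := by
  have h := (hm.mono hH).commutator_isNilpotent (hm.fixA_of_le hH.le) (hm.solvable H hH.le hH.inv hH.ne)
  rw [← map_subtype_commutator] at h ⊢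
  haveI : Group.IsNilpotent (commutator H) :=
    Group.nilpotent_of_mulEquiv ((commutator H).equivMapOfInjective H.subtype H.subtype_injective).symm
  exact map_mono (le_sSup ⟨inferInstance, inferInstance⟩)

theorem IsMinimal.inv_pOf (hm : IsMinimal A G q) {H : Subgroup X} (hH : IsProper A G H) :
    A ≤ normalizer (OddOrder.pOf r H : Set X) := by
  have := hm.card_A
  exact hH.inv.trans (OddOrder.normalizer_le_normalizer_pOf H)

theorem IsMinimal.pOf_le_syl (hm : IsMinimal A G q) {H : Subgroup X} (hH : IsProper A G H) :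
    OddOrder.pOf r H ≤ syl A G r :=
  le_syl ((OddOrder.pOf_le H).trans hH.le) (hm.inv_pOf hH) (OddOrder.isPGroup_pOf H)

theorem IsMinimal.fittingOf_inf_syl (hm : IsMinimal A G q) [Fact r.Prime] (H : Subgroup X) :
    fittingOf H ⊓ syl A G r ≤ OddOrder.pOf r H := by
  intro x hx
  obtain ⟨k, hk⟩ := hm.isPGroup_syl (⟨x, hx.2⟩ : syl A G r)
  exact OddOrder.mem_pOf hx.1 (congrArg Subtype.val hk)

theorem IsMinimal.mem_fittingOf (hm : IsMinimal A G q) {H : Subgroup X} (hH : IsProper A G H)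
    {x : X} (hx : x ∈ H) (h : ∀ u : ℕ, u.Prime → x ∈ centralizer (OddOrder.pOf u H : Set X)) :
    x ∈ fittingOf H := by
  haveI := hm.solvable H hH.le hH.inv hH.ne
  refine OddOrder.inf_centralizer_fittingOf_le H ⟨hx, mem_centralizer_iff.2 fun y hy => ?_⟩
  have hle : fittingOf H ≤ centralizer ({x} : Set X) := OddOrder.fittingOf_le_of_forall fun u hu w hw =>
    mem_centralizer_singleton_iff.2 (mem_centralizer_iff.1 (h u hu) w hw)
  exact mem_centralizer_singleton_iff.1 (hle hy)

theorem IsMinimal.fitting_ne_bot (hm : IsMinimal A G q) {H : Subgroup X} (hH : IsProper A G H)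
    (h1 : H ≠ ⊥) : fittingOf H ≠ ⊥ := fun h => h1 (eq_bot_iff.2 fun x hx => by
  haveI := hm.solvable H hH.le hH.inv hH.ne
  rw [← h]
  exact OddOrder.inf_centralizer_fittingOf_le H ⟨hx, by simp [h, mem_centralizer_iff]⟩)

theorem IsMinimal.inv_fittingOf (hm : IsMinimal A G q) {H : Subgroup X} (hH : IsProper A G H) :
    A ≤ normalizer (fittingOf H : Set X) := by
  have := hm.card_A
  exact hH.inv.trans (Components.normalizer_le_normalizer_map_of_characteristic H (fittingSubgroup H))

omit [Finite X] in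
theorem le_normalizer_of_commutator_le {H T : Subgroup X} (hTH : T ≤ H) (h : ⁅H, H⁆ ≤ T) :
    H ≤ normalizer (T : Set X) :=
  le_normalizer_iff_commutator_le_left.2 ((commutator_mono hTH le_rfl).trans h)

/-- `H = F(H) S · N_H(S)` for `S = H ∩ syl r`. -/
theorem IsMinimal.le_fitting_sup_normalizer (hm : IsMinimal A G q) [Fact r.Prime] {H : Subgroup X}
    (hH : IsProper A G H) :
    H ≤ ((H ⊓ syl A G r) ⊔ fittingOf H) ⊔ (H ⊓ normalizer ((H ⊓ syl A G r : Subgroup X) : Set X)) := by
  have hTH : (H ⊓ syl A G r) ⊔ fittingOf H ≤ H := sup_le inf_le_left (OddOrder.fittingOf_le H)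
  refine frattini_sup hTH (le_normalizer_of_commutator_le hTH
    ((hm.commutator_le_fittingOf hH).trans le_sup_right)) le_sup_left (hm.isPGroup_inf_syl H) fun h => ?_
  refine hm.not_dvd_relIndex (r := r) hH.le hH.inv (h.trans ?_)
  exact Dvd.intro _ (relIndex_mul_relIndex _ _ _ le_sup_left hTH)

/-- A subgroup of `O_r(H)` normalised by `S` and `N_H(S)` is normal in `H`. -/
theorem IsMinimal.le_normalizer_of_syl (hm : IsMinimal A G q) [Fact r.Prime] {H Y : Subgroup X}
    (hH : IsProper A G H) (hY : Y ≤ OddOrder.pOf r H)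
    (h1 : H ⊓ syl A G r ≤ normalizer (Y : Set X))
    (h2 : H ⊓ normalizer ((H ⊓ syl A G r : Subgroup X) : Set X) ≤ normalizer (Y : Set X)) :
    H ≤ normalizer (Y : Set X) := by
  refine (hm.le_fitting_sup_normalizer hH).trans (sup_le (sup_le h1
    (OddOrder.fittingOf_le_of_forall fun u hu => ?_)) h2)
  haveI := Fact.mk hu
  by_cases hur : u = r
  · subst hur
    exact (le_inf (OddOrder.pOf_le H) (hm.pOf_le_syl hH)).trans h1
  · exact ((OddOrder.pOf_le_centralizer_pOf hur H).trans (centralizer_le hY)).trans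
      (centralizer_le_normalizer _)

theorem IsMinimal.not_hasNormalPComplement (hm : IsMinimal A G q) [Fact r.Prime]
    (hr : r ∣ Nat.card G) : ¬ Cfsg.HasNormalPComplement r G := by
  intro h
  haveI := Transfer.pResidual_normal (G := G) r
  set K := (Cfsg.pResidual r G).map G.subtype with hK
  have hKA : A ≤ normalizer (K : Set X) := fun a ha => mem_normalizer_of_forall fun x hx => by
    obtain ⟨k, hk, rfl⟩ := hx
    have hmem : a * k * a⁻¹ ∈ G := (mem_normalizer_iff.1 (hm.inv ha) k).1 k.2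
    refine ⟨⟨_, hmem⟩, (Transfer.mem_pResidual_iff h _).2 ?_, rfl⟩
    rw [Subgroup.orderOf_mk, show a * (k : X) * a⁻¹ = MulAut.conj a (k : X) from rfl,
      MulEquiv.orderOf_eq, Subgroup.orderOf_coe]
    exact (Transfer.mem_pResidual_iff h k).1 hk
  rcases hm.normal K (map_subtype_le _) hKA (OddOrder.le_normalizer_map_of_normal _) with h1 | h1
  · refine hm.syl_ne_top (r := r) (le_antisymm syl_le (hm.le_of_syl_le le_rfl hm.inv fun u hu => ?_))
    by_cases hur : u = r
    · subst hur; exact inf_le_right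
    haveI := Fact.mk hu
    intro x hx
    obtain ⟨k, hk⟩ := hm.isPGroup_syl (⟨x, hx.2⟩ : syl A G u)
    have hmem : (⟨x, hx.1⟩ : G) ∈ Cfsg.pResidual r G := (Transfer.mem_pResidual_iff h _).2 (by
      rw [Subgroup.orderOf_mk]
      exact (((Nat.coprime_primes hu Fact.out).2 hur).pow_left k).coprime_dvd_left
        (orderOf_dvd_of_pow_eq_one (congrArg Subtype.val hk)))
    have h2 : x ∈ K := ⟨_, hmem, rfl⟩
    rw [h1, mem_bot] at h2
    rw [h2]
    exact one_mem _
  · have h2 := Transfer.hasNormalPComplement_iff.1 h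
    rw [← card_map_of_injective (K := Cfsg.pResidual r G) G.subtype_injective] at h2
    rw [← hK, h1] at h2
    exact h2 hr

/-- An abelian invariant Sylow subgroup is not central in its normaliser. -/
theorem IsMinimal.not_le_centralizer (hm : IsMinimal A G q) [Fact r.Prime]
    (hr : syl A G r ≠ ⊥) :
    ¬ G ⊓ normalizer (syl A G r : Set X) ≤ centralizer (syl A G r : Set X) := by
  intro h
  obtain ⟨P, hP, -⟩ := hm.exists_sylow_eq (r := r)
  refine hm.not_hasNormalPComplement (r := r) ?_ ⟨P, _, inferInstance,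
    MonoidHom.ker_transferSylow_isComplement' P fun g hg => mem_centralizer_iff.2 fun x hx => ?_⟩
  · obtain ⟨k, hk⟩ := (hm.isPGroup_syl (r := r)).exists_card_eq
    have hk0 : k ≠ 0 := fun h0 => hr (card_eq_one.1 (by rw [hk, h0, pow_zero]))
    exact ((dvd_pow_self r hk0).trans hk.symm.dvd).trans (card_dvd_of_le syl_le)
  · have hgX : (g : X) ∈ normalizer (syl A G r : Set X) := mem_normalizer_of_forall fun y hy => by
      rw [← hP] at hy ⊢
      obtain ⟨w, hw, rfl⟩ := hy
      exact ⟨g * w * g⁻¹, (mem_normalizer_iff.1 hg w).1 hw, rfl⟩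
    refine Subtype.ext (mem_centralizer_iff.1 (h ⟨g.2, hgX⟩) x ?_)
    rw [SetLike.mem_coe, ← hP]
    exact ⟨x, hx, rfl⟩

/-- If `G = HK` (by Sylow orders) and `K` centralises a nontrivial invariant subgroup of `H`,
the minimal counterexample is contradicted. -/
theorem IsMinimal.false_of_product (hm : IsMinimal A G q) {H K Z : Subgroup X}
    (hH : IsProper A G H) (hK : K ≤ G) (hKA : A ≤ normalizer (K : Set X))
    (hdvd : ∀ r : ℕ, r.Prime → Nat.card (syl A G r) * Nat.card (H ⊓ K ⊓ syl A G r : Subgroup X) ∣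
      Nat.card H * Nat.card K)
    (hZH : Z ≤ H) (hZA : A ≤ normalizer (Z : Set X)) (hZ : Z ≠ ⊥)
    (hKZ : K ≤ centralizer (Z : Set X)) : False := by
  set I := H ⊓ K with hI
  have hIG : I ≤ G := inf_le_left.trans hH.le
  have hIA : A ≤ normalizer (I : Set X) := Coprime.le_normalizer_inf_of_le hH.inv hKA
  have hGI : Nat.card G * Nat.card I ∣ Nat.card H * Nat.card K := by
    refine (Nat.dvd_iff_prime_pow_dvd_dvd _ _).2 fun r k hr hk => dvd_trans ?_ (hdvd r hr)
    haveI := Fact.mk hr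
    have key : ∀ {J : Subgroup X}, J ≤ G → A ≤ normalizer (J : Set X) →
        Nat.card J = Nat.card (J ⊓ syl A G r : Subgroup X) * (J ⊓ syl A G r).relIndex J := by
      intro J _ _
      rw [← Coprime.card_subgroupOf (inf_le_left : J ⊓ syl A G r ≤ J)]
      exact (card_mul_index _).symm
    rw [key le_rfl hm.inv, key hIG hIA, show G ⊓ syl A G r = syl A G r from inf_eq_right.2 syl_le,
      mul_mul_mul_comm] at hk
    refine Nat.Coprime.dvd_of_dvd_mul_right (Nat.Coprime.pow_left k ?_) hk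
    refine (hr.coprime_iff_not_dvd).2 fun h => ?_
    rcases hr.dvd_mul.1 h with h | h
    · have := hm.not_dvd_relIndex (r := r) le_rfl hm.inv
      rw [show G ⊓ syl A G r = syl A G r from inf_eq_right.2 syl_le] at this
      exact this h
    · exact hm.not_dvd_relIndex (r := r) hIG hIA h
  have hle : Nat.card G ≤ Nat.card ((H : Set X) * (K : Set X) : Set X) := by
    refine Nat.le_of_mul_le_mul_right ?_ (Nat.card_pos (α := I))
    rw [Coprime.ncard_mul_mul_card_inf]
    exact Nat.le_of_dvd (Nat.mul_pos Nat.card_pos Nat.card_pos) hGI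
  have hset : (H : Set X) * (K : Set X) = G := by
    refine Set.eq_of_subset_of_ncard_le ?_ ?_ (Set.toFinite _)
    · rintro _ ⟨h, hh, k, hk, rfl⟩; exact mul_mem (hH.le hh) (hK hk)
    · rwa [← Nat.card_coe_set_eq, ← Nat.card_coe_set_eq]
  set N := closure {x : X | ∃ g ∈ G, ∃ z ∈ Z, x = g * z * g⁻¹} with hN
  have hNH : N ≤ H := (closure_le _).2 fun x hx => by
    obtain ⟨g, hg, z, hz, rfl⟩ := hx
    obtain ⟨h, hh, k, hk, rfl⟩ : g ∈ (H : Set X) * (K : Set X) := hset.symm ▸ hg
    have e : k * z = z * k := (mem_centralizer_iff.1 (hKZ hk) z hz).symm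
    rw [show h * k * z * (h * k)⁻¹ = h * (k * z * k⁻¹) * h⁻¹ by group, e, mul_inv_cancel_right]
    exact mul_mem (mul_mem hh (hZH hz)) (inv_mem hh)
  have hn : ∀ t : X, (∀ g ∈ G, ∀ z ∈ Z, ∃ g' ∈ G, ∃ z' ∈ Z, t * (g * z * g⁻¹) * t⁻¹ = g' * z' * g'⁻¹) →
      t ∈ normalizer (N : Set X) := fun t ht => mem_normalizer_of_forall fun x hx => by
    suffices hle : N ≤ N.comap (MulAut.conj t).toMonoidHom from hle hx
    refine (closure_le _).2 fun y hy => ?_
    obtain ⟨g, hg, z, hz, rfl⟩ := hy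
    obtain ⟨g', hg', z', hz', e⟩ := ht g hg z hz
    exact subset_closure ⟨g', hg', z', hz', e⟩
  rcases hm.normal N (hNH.trans hH.le)
      (fun a ha => hn a fun g hg z hz => ⟨a * g * a⁻¹, (mem_normalizer_iff.1 (hm.inv ha) g).1 hg,
        a * z * a⁻¹, (mem_normalizer_iff.1 (hZA ha) z).1 hz, by group⟩)
      (fun t ht => hn t fun g hg z hz => ⟨t * g, mul_mem ht hg, z, hz, by group⟩) with h | h
  · exact hZ (eq_bot_iff.2 fun z hz => h ▸ subset_closure ⟨1, one_mem _, z, hz, by group⟩)
  · exact hH.ne (le_antisymm hH.le (h ▸ hNH))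

/-- The product argument: an acting invariant subgroup cannot contain all but one of the `C_G(L)`. -/
theorem IsMinimal.false_of_good (hm : IsMinimal A G q) {u v : ℕ} [Fact u.Prime] [Fact v.Prime]
    (huv : u ≠ v) {M W V D : Subgroup X} (hM : IsProper A G M) (hW : W ≤ M) (hV : V ≤ M)
    (hWA : A ≤ normalizer (W : Set X)) (hVA : A ≤ normalizer (V : Set X))
    (hWp : IsPGroup u W) (hVp : IsPGroup v V) (hWV : W ≤ normalizer (V : Set X))
    (hne : ¬ W ≤ centralizer (V : Set X)) (hD : IsLine A q D)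
    (hgood : ∀ L, IsLine A q L → L ≠ D → fix G L ≤ M) : False := by
  have hcomm : ∀ r : ℕ, r.Prime → ⁅syl A G r, D⁆ ≤ M := by
    intro r hr
    haveI := Fact.mk hr
    set R := syl A G r
    have hDR : D ≤ normalizer (R : Set X) := hD.1.trans hm.inv_syl
    set X₀ := ⁅R, D⁆ with hX₀
    have hX₀R : X₀ ≤ R := Coprime.commutator_le_left_of_le_normalizer hDR
    have hX₀A : A ≤ normalizer (X₀ : Set X) := le_normalizer_commutator' hm.inv_syl
      ((hm.le_centralizer_A hD.1).trans (centralizer_le_normalizer _))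
    have hcop := hm.coprime (L := D) hD.1 (syl_le (A := A) (G := G) (r := r))
    have hself : ⁅X₀, D⁆ = X₀ :=
      Coprime.commutator_commutator_eq hDR hcop (Or.inl (hm.isSolvable_A hD.1))
    have hp : IsPGroup r X₀ := hm.isPGroup_syl.to_le hX₀R
    have hΦ := inf_centralizer_le_frattini hp (hD.1.trans hX₀A) (hm.isSolvable_A hD.1)
      (hm.coprime hD.1 (hX₀R.trans syl_le)) hself
    have hgen : X₀ ≤ (X₀ ⊓ M) ⊔ (frattini X₀).map X₀.subtype :=
      hm.le_of_fix_le (hX₀R.trans syl_le) hX₀A fun L hL => by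
        by_cases hLD : L = D
        · subst hLD; exact hΦ.trans le_sup_right
        · exact (le_inf inf_le_left ((fix_mono (hX₀R.trans syl_le)).trans (hgood L hL hLD))).trans
            le_sup_left
    have htop : M.subgroupOf X₀ = ⊤ := by
      refine frattini_nongenerating (top_unique fun x _ => ?_)
      have h1 := hgen x.2
      rw [← inf_subgroupOf_right] at *
      have h2 : X₀ ⊓ M = ((M ⊓ X₀).subgroupOf X₀).map X₀.subtype := by
        rw [map_subgroupOf_eq_of_le inf_le_right, inf_comm]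
      rw [h2, ← Subgroup.map_sup] at h1
      obtain ⟨y, hy, hyx⟩ := h1
      rwa [← Subtype.ext hyx]
    exact subgroupOf_eq_top.1 htop
  have hfix : fix M D = ⊥ := by
    by_contra h
    refine hm.false_of_product (K := fix G D) hM inf_le_left (hm.inv_fix hm.inv hD.1) ?_ inf_le_left
      (hm.inv_fix hM.inv hD.1) h (hm.fix_le_centralizer le_rfl hM.le hD)
    intro r hr
    haveI := Fact.mk hr
    set R := syl A G r with hR
    have hDR : D ≤ normalizer (R : Set X) := hD.1.trans hm.inv_syl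
    have hcop := hm.coprime (L := D) hD.1 (syl_le (A := A) (G := G) (r := r))
    have hset : ((R ⊓ fix G D : Subgroup X) : Set X) * ((R ⊓ M : Subgroup X) : Set X) = R := by
      refine Set.Subset.antisymm ?_ fun x hx => ?_
      · rintro _ ⟨a, ha, b, hb, rfl⟩; exact mul_mem ha.1 hb.1
      · obtain ⟨c, hc, m, hm', rfl⟩ := Coprime.exists_centralizer_mul_commutator hDR hcop
          (Or.inl (hm.isSolvable_A hD.1)) hx
        exact ⟨c, ⟨hc.1, syl_le hc.1, hc.2⟩, m,
          ⟨Coprime.commutator_le_left_of_le_normalizer hDR hm', hcomm r hr hm'⟩, rfl⟩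
    have h1 := Coprime.ncard_mul_mul_card_inf (R ⊓ fix G D) (R ⊓ M)
    rw [hset, show (R ⊓ fix G D) ⊓ (R ⊓ M) = M ⊓ fix G D ⊓ R by
      rw [inf_inf_inf_comm, inf_idem, inf_comm R, inf_comm (fix G D) M]] at h1
    refine dvd_trans (dvd_of_eq h1) ?_
    rw [mul_comm (Nat.card M)]
    exact mul_dvd_mul (card_dvd_of_le inf_le_right) (card_dvd_of_le inf_le_right)
  refine hne (hm.le_of_fix_le (hW.trans hM.le) hWA fun L hL => ?_)
  by_cases hLD : L = D
  · subst hLD
    exact ((fix_mono hW).trans hfix.le).trans bot_le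
  · exact hm.fix_le_centralizer_of_fix_eq_bot hm.fixA (hW.trans hM.le) hWA (hV.trans hM.le) hVA hVp
      hWV (IsPGroup.coprime_card_of_ne u v huv _ _ hWp hVp) hL hD hLD
      (eq_bot_iff.2 ((fix_mono hV).trans hfix.le))

/-- A nontrivial action inside `M` forces some centraliser of a moved line to leave `M`. -/
theorem IsMinimal.false_of_fix_le (hm : IsMinimal A G q) {u v : ℕ} [Fact u.Prime] [Fact v.Prime]
    (huv : u ≠ v) {M W V : Subgroup X} (hM : IsProper A G M) (hW : W ≤ M) (hV : V ≤ M)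
    (hWA : A ≤ normalizer (W : Set X)) (hVA : A ≤ normalizer (V : Set X))
    (hWp : IsPGroup u W) (hVp : IsPGroup v V) (hWV : W ≤ normalizer (V : Set X))
    (hne : ¬ W ≤ centralizer (V : Set X))
    (h : ∀ L, IsLine A q L → fix V L ≠ ⊥ → fix G L ≤ M) : False := by
  obtain ⟨D, hD, hDL⟩ := hm.exists_exceptional hm.fixA (hW.trans hM.le) hWA (hV.trans hM.le) hVA hVp
    hWV (IsPGroup.coprime_card_of_ne u v huv _ _ hWp hVp) hne
  exact hm.false_of_good huv hM hW hV hWA hVA hWp hVp hWV hne hD fun L hL hLD =>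
    h L hL (hDL L hL hLD)

end Cfsg.Agent.AbelianCent
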