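import Cfsg.Agent.Lib.AbelianCent.Minimal

/-!
# Maximal invariant subgroups containing a nonabelian Sylow intersection

If `H ∩ syl r` is nonabelian, `H` lies in the unique maximal invariant subgroup of this kind at `r`,
which centralises `Z(R) ∩ R'` for `R = syl r`. `eq_of_centralizer_le`: it contains the centraliser of no
nontrivial subgroup of `O_s(M)` for another maximal `M`.
-/

namespace Cfsg.Agent.AbelianCent

open Subgroup
open scoped Pointwise commutatorElement

universe u

variable {X : Type u} [Group X] {A G : Subgroup X} {q r s : ℕ}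

/-- The Sylow intersection at `r` is abelian. -/
def AbAt (A G : Subgroup X) (r : ℕ) (H : Subgroup X) : Prop :=
  ⁅H ⊓ syl A G r, H ⊓ syl A G r⁆ = ⊥

/-- `Z(R) ∩ R'`. -/
def zSyl (A G : Subgroup X) (r : ℕ) : Subgroup X :=
  syl A G r ⊓ centralizer (syl A G r : Set X) ⊓ ⁅syl A G r, syl A G r⁆

theorem AbAt.commute {H : Subgroup X} (h : AbAt A G r H) {a b : X} (ha : a ∈ H ⊓ syl A G r)
    (hb : b ∈ H ⊓ syl A G r) : a * b = b * a :=
  commutatorElement_eq_one_iff_mul_comm.1 (mem_bot.1 (h ▸ commutator_mem_commutator ha hb))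

theorem AbAt.le_centralizer {H P Q : Subgroup X} (h : AbAt A G r H) (hP : P ≤ H ⊓ syl A G r)
    (hQ : Q ≤ H ⊓ syl A G r) : P ≤ centralizer (Q : Set X) := fun _ hx =>
  mem_centralizer_iff.2 fun _ hy => h.commute (hQ hy) (hP hx)

theorem AbAt.mono {H K : Subgroup X} (h : AbAt A G r K) (hle : H ≤ K) : AbAt A G r H :=
  eq_bot_iff.2 ((commutator_mono (inf_le_inf_right _ hle) (inf_le_inf_right _ hle)).trans h.le)

variable [Finite X]

theorem exists_mem_normalizer_not_mem {p : ℕ} [Fact p.Prime] {P S : Subgroup X} (hP : IsPGroup p P)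
    (hSP : S ≤ P) (hne : S ≠ P) : ∃ n ∈ P, n ∈ normalizer (S : Set X) ∧ n ∉ S := by
  have := hP.isNilpotent
  have hlt : S.subgroupOf P < ⊤ := lt_top_iff_ne_top.2 fun h =>
    hne (le_antisymm hSP (subgroupOf_eq_top.1 h))
  obtain ⟨n, hn, hnS⟩ := SetLike.exists_of_lt (Group.normalizerCondition_of_isNilpotent _ hlt)
  exact ⟨n, n.2, mem_normalizer_of_forall fun x hx => (mem_normalizer_iff.1 hn ⟨x, hSP hx⟩).1 hx, hnS⟩

theorem IsMinimal.commutator_le_pOf (hm : IsMinimal A G q) [Fact r.Prime] {H : Subgroup X}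
    (hH : IsProper A G H) : ⁅H ⊓ syl A G r, H ⊓ syl A G r⁆ ≤ OddOrder.pOf r H := fun x hx =>
  hm.fittingOf_inf_syl H ⟨hm.commutator_le_fittingOf hH (commutator_mono inf_le_left inf_le_left hx),
    (Coprime.commutator_le_left_of_le_normalizer le_normalizer hx).2⟩

theorem IsMinimal.le_normalizer_commutator_syl (hm : IsMinimal A G q) [Fact r.Prime] {H : Subgroup X}
    (hH : IsProper A G H) :
    H ≤ normalizer ((⁅H ⊓ syl A G r, H ⊓ syl A G r⁆ : Subgroup X) : Set X) :=
  hm.le_normalizer_of_syl hH (hm.commutator_le_pOf hH)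
    (le_normalizer_commutator' le_normalizer le_normalizer)
    (le_normalizer_commutator' inf_le_right inf_le_right)

/-- All proper invariant subgroups which are nonabelian at `r` lie in one maximal one. -/
theorem IsMinimal.exists_max_nonab (hm : IsMinimal A G q) [Fact r.Prime] {H : Subgroup X}
    (hH : IsProper A G H) (hn : ¬ AbAt A G r H) :
    ∃ L, IsMax A G L ∧ syl A G r ≤ L ∧ ∀ K, IsProper A G K → ¬ AbAt A G r K → K ≤ L := by
  set R := syl A G r with hR
  have hRA : A ≤ normalizer (R : Set X) := hm.inv_syl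
  have hR' : ⁅R, R⁆ ≤ R := Coprime.commutator_le_left_of_le_normalizer le_normalizer
  have hR1 : ⁅R, R⁆ ≠ ⊥ := fun h =>
    hn (eq_bot_iff.2 ((commutator_mono inf_le_right inf_le_right).trans h.le))
  have hR2 : ⁅R, R⁆ ≠ G := fun h => hm.syl_ne_top (r := r) (le_antisymm syl_le (h.ge.trans hR'))
  obtain ⟨L, hL, hle⟩ := hm.exists_max
    (hm.proper_normalizer (hR'.trans syl_le) (le_normalizer_commutator' hRA hRA) hR1 hR2)
  refine ⟨L, hL, (le_inf syl_le (le_normalizer_commutator' le_normalizer le_normalizer)).trans hle, ?_⟩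
  intro K hK hKn
  induction hd : Nat.card R - Nat.card (K ⊓ R : Subgroup X) using Nat.strong_induction_on
    generalizing K with
  | _ n ih =>
  set S := K ⊓ R with hS
  have hSK : K ≤ G ⊓ normalizer ((⁅S, S⁆ : Subgroup X) : Set X) :=
    le_inf hK.le (hm.le_normalizer_commutator_syl hK)
  by_cases hSR : S = R
  · rw [hSR] at hSK
    exact hSK.trans hle
  have hS1 : ⁅S, S⁆ ≠ ⊥ := hKn
  have hSS : ⁅S, S⁆ ≤ S := Coprime.commutator_le_left_of_le_normalizer le_normalizer
  have hSA : A ≤ normalizer (S : Set X) := hm.inv_inf_syl hK.inv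
  have hP := hm.proper_normalizer (hSS.trans (inf_le_left.trans hK.le))
    (le_normalizer_commutator' hSA hSA) hS1
    fun h => hK.ne (le_antisymm hK.le (h ▸ hSS.trans inf_le_left))
  obtain ⟨n', hn', hnN, hnS⟩ := exists_mem_normalizer_not_mem hm.isPGroup_syl inf_le_right hSR
  set K' := G ⊓ normalizer ((⁅S, S⁆ : Subgroup X) : Set X) with hK'
  have hlt : Nat.card S < Nat.card (K' ⊓ R : Subgroup X) := by
    refine lt_of_le_of_ne (card_le_of_le (inf_le_inf_right _ hSK)) fun h => hnS ?_
    rw [eq_of_le_of_card_ge (inf_le_inf_right R hSK) h.ge]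
    exact ⟨⟨syl_le hn', le_normalizer_commutator' (N := zpowers n') (zpowers_le.2 hnN)
      (zpowers_le.2 hnN) (mem_zpowers n')⟩, hn'⟩
  have hle' := card_le_of_le (inf_le_right : K' ⊓ R ≤ R)
  exact hSK.trans (ih _ (by omega) K' hP (fun h => hKn (h.mono hSK)) rfl)

theorem IsMax.syl_le_of_nonab (hm : IsMinimal A G q) [Fact r.Prime] {M : Subgroup X}
    (hM : IsMax A G M) (hn : ¬ AbAt A G r M) : syl A G r ≤ M := by
  obtain ⟨L, hL, hRL, hall⟩ := hm.exists_max_nonab hM.toIsProper hn
  exact hM.eq_of_le L hL.toIsProper (hall M hM.toIsProper hn) ▸ hRL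

theorem IsMax.le_of_nonab (hm : IsMinimal A G q) [Fact r.Prime] {M K : Subgroup X}
    (hM : IsMax A G M) (hn : ¬ AbAt A G r M) (hK : IsProper A G K) (hKn : ¬ AbAt A G r K) :
    K ≤ M := by
  obtain ⟨L, hL, -, hall⟩ := hm.exists_max_nonab hM.toIsProper hn
  exact hM.eq_of_le L hL.toIsProper (hall M hM.toIsProper hn) ▸ hall K hK hKn

theorem IsMinimal.inv_zSyl (hm : IsMinimal A G q) [Fact r.Prime] :
    A ≤ normalizer (zSyl A G r : Set X) :=
  Coprime.le_normalizer_inf_of_le
    (Coprime.le_normalizer_inf_of_le hm.inv_syl (le_normalizer_centralizer' hm.inv_syl))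
    (le_normalizer_commutator' hm.inv_syl hm.inv_syl)

theorem IsMinimal.zSyl_ne_bot (hm : IsMinimal A G q) [Fact r.Prime]
    (h : ¬ AbAt A G r G) : zSyl A G r ≠ ⊥ := by
  set R := syl A G r with hR
  haveI := (hm.isPGroup_syl (r := r)).isNilpotent
  have hne : commutator R ≠ ⊥ := fun h' => h (by
    rw [AbAt, inf_eq_right.2 syl_le, ← map_subtype_commutator, h', Subgroup.map_bot])
  obtain ⟨z, hz⟩ := ((commutator R ⊓ center R).ne_bot_iff_exists_ne_one).1
    (Solvable.inf_center_ne_bot hne)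
  intro h'
  refine hz (Subtype.ext (Subtype.ext (mem_bot.1 (h' ▸ ?_))))
  refine ⟨⟨(z : R).2, mem_centralizer_iff.2 fun y hy =>
    congrArg Subtype.val (mem_center_iff.1 z.2.2 ⟨y, hy⟩)⟩, ?_⟩
  rw [← map_subtype_commutator]
  exact ⟨z, z.2.1, rfl⟩

theorem IsMax.le_centralizer_zSyl (hm : IsMinimal A G q) [Fact r.Prime] {M : Subgroup X}
    (hM : IsMax A G M) (hn : ¬ AbAt A G r M) : M ≤ centralizer (zSyl A G r : Set X) := by
  set R := syl A G r with hR
  have hRM : R ≤ M := hM.syl_le_of_nonab hm hn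
  have hMR : M ⊓ R = R := inf_eq_right.2 hRM
  have hZR : zSyl A G r ≤ R := inf_le_left.trans inf_le_left
  have hRZ : R ≤ centralizer (zSyl A G r : Set X) :=
    le_centralizer_iff.1 (inf_le_left.trans inf_le_right)
  have hZO : zSyl A G r ≤ OddOrder.pOf r M := inf_le_right.trans (by
    have := hm.commutator_le_pOf (r := r) hM.toIsProper
    rwa [← hR, hMR] at this)
  have hMZ : M ≤ normalizer (zSyl A G r : Set X) := by
    refine hm.le_normalizer_of_syl hM.toIsProper hZO ?_ ?_
    · rw [← hR, hMR]; exact hRZ.trans (centralizer_le_normalizer _)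
    · rw [← hR, hMR]
      exact Coprime.le_normalizer_inf_of_le (Coprime.le_normalizer_inf_of_le inf_le_right
        (le_normalizer_centralizer' inf_le_right))
        (le_normalizer_commutator' inf_le_right inf_le_right)
  refine hm.le_of_syl_le hM.le hM.inv fun u hu => ?_
  haveI := Fact.mk hu
  by_cases hur : u = r
  · subst hur; exact inf_le_right.trans hRZ
  by_contra hne
  refine hm.false_of_fix_le hur hM.toIsProper inf_le_left (hZR.trans hRM) (hm.inv_inf_syl hM.inv)
    hm.inv_zSyl (hm.isPGroup_inf_syl M) (hm.isPGroup_syl.to_le hZR) (inf_le_left.trans hMZ) hne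
    fun L hL hLne => ?_
  have hZG : zSyl A G r ≤ G := hZR.trans syl_le
  have hP := hm.proper_centralizer (inf_le_left.trans hZG) (hm.inv_fix hm.inv_zSyl hL.1) hLne
  have hRP : R ≤ G ⊓ centralizer (fix (zSyl A G r) L : Set X) :=
    le_inf syl_le (hRZ.trans (centralizer_le inf_le_left))
  refine (le_inf inf_le_left (hm.fix_le_centralizer le_rfl hZG hL)).trans
    (hM.le_of_nonab hm hn hP fun h => hn ?_)
  rw [AbAt, ← hR, hMR]
  rwa [AbAt, ← hR, inf_eq_right.2 hRP] at h

theorem IsMax.centralizer_zSyl_eq (hm : IsMinimal A G q) [Fact r.Prime] {M : Subgroup X}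
    (hM : IsMax A G M) (hn : ¬ AbAt A G r M) : G ⊓ centralizer (zSyl A G r : Set X) = M :=
  hM.centralizer_eq hm ((inf_le_left.trans inf_le_left).trans syl_le) hm.inv_zSyl
    (hm.zSyl_ne_bot fun h => hn (h.mono hM.le)) (hM.le_centralizer_zSyl hm hn)

/-- A maximal subgroup nonabelian at some prime contains no centraliser of a nontrivial abelian
invariant subgroup of `O_s(M)`, unless it is `M`. -/
theorem IsMax.eq_of_centralizer_le (hm : IsMinimal A G q) [Fact r.Prime] [Fact s.Prime]
    {M L Y : Subgroup X} (hM : IsMax A G M) (hL : IsMax A G L) (hn : ¬ AbAt A G r L)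
    (hY : Y ≤ OddOrder.pOf s M) (hYA : A ≤ normalizer (Y : Set X)) (hY1 : Y ≠ ⊥)
    (hYc : Y ≤ centralizer (Y : Set X)) (hle : G ⊓ centralizer (Y : Set X) ≤ L) : L = M := by
  by_contra hne
  have hMab : AbAt A G r M := by
    by_contra h
    exact hne (hM.eq_of_le L hL.toIsProper (hL.le_of_nonab hm hn hM.toIsProper h))
  set Z := zSyl A G r with hZ
  set R := syl A G r with hR
  have hZR : Z ≤ R := inf_le_left.trans inf_le_left
  have hZL : L ≤ centralizer (Z : Set X) := hL.le_centralizer_zSyl hm hn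
  have hYM : Y ≤ M := hY.trans (OddOrder.pOf_le M)
  have hGC : ∀ {P : Subgroup X}, P ≤ M → P ≤ centralizer (Y : Set X) → Z ≤ centralizer (P : Set X) :=
    fun hP hP' => le_centralizer_iff.1 (((le_inf (hP.trans hM.le) hP').trans hle).trans hZL)
  -- `Z ≤ M`
  have hzne : OddOrder.zOf s M ≠ ⊥ := OddOrder.zOf_ne_bot (by
    by_contra h
    exact hY1 (eq_bot_iff.2 (hY.trans (OddOrder.pOf_eq_bot_iff.2 h).le)))
  have hzA : A ≤ normalizer (OddOrder.zOf s M : Set X) :=
    Coprime.le_normalizer_inf_of_le (hm.inv_pOf hM.toIsProper)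
      (le_normalizer_centralizer' (hm.inv_pOf hM.toIsProper))
  have hZz : Z ≤ centralizer (OddOrder.zOf s M : Set X) :=
    hGC (OddOrder.zOf_le M) (inf_le_right.trans (centralizer_le hY))
  have hZM : Z ≤ M := by
    rw [← hM.normalizer_eq hm (OddOrder.zOf_le M) hzA hzne (OddOrder.le_normalizer_zOf M)]
    exact le_inf (hZR.trans syl_le) (hZz.trans (centralizer_le_normalizer _))
  have hZMR : Z ≤ M ⊓ R := le_inf hZM hZR
  -- `Z` centralises `F(M)`
  have hsM : OddOrder.pOf s M ≤ M ⊓ syl A G s :=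
    le_inf (OddOrder.pOf_le M) (hm.pOf_le_syl hM.toIsProper)
  have hZO : ∀ u : ℕ, u.Prime → Z ≤ centralizer (OddOrder.pOf u M : Set X) := by
    intro u hu
    haveI := Fact.mk hu
    by_cases hus : u = s
    · subst hus
      by_cases hrs : r = u
      · subst hrs
        exact hMab.le_centralizer hZMR hsM
      · refine Coprime.le_centralizer_of_pq ((OddOrder.isPGroup_pOf M).to_le hY) ?_
          (OddOrder.isPGroup_pOf M) ?_ (hYM.trans (OddOrder.le_normalizer_pOf M))
          (hZM.trans (OddOrder.le_normalizer_pOf M)) ?_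
        · obtain ⟨k, hk⟩ := (hm.isPGroup_syl.to_le hZR : IsPGroup r Z).exists_card_eq
          rw [hk]
          exact ((Nat.coprime_primes Fact.out Fact.out).2 hrs).pow_left k
        · exact le_centralizer_iff.1 (hGC hYM hYc)
        · exact le_centralizer_iff.1
            (hGC (inf_le_left.trans (OddOrder.pOf_le M)) inf_le_right)
    · exact hGC (OddOrder.pOf_le M) ((OddOrder.pOf_le_centralizer_pOf hus M).trans (centralizer_le hY))
  set O := OddOrder.pOf r M with hO
  have hOMR : O ≤ M ⊓ R := le_inf (OddOrder.pOf_le M) (hm.pOf_le_syl hM.toIsProper)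
  have hZO' : Z ≤ O := fun z hz => hm.fittingOf_inf_syl M
    ⟨hm.mem_fittingOf hM.toIsProper (hZM hz) fun u hu => hZO u hu hz, hZR hz⟩
  have hZne : Z ≠ ⊥ := hm.zSyl_ne_bot fun h => hn (h.mono hL.le)
  have hOne : O ≠ ⊥ := fun h => hZne (eq_bot_iff.2 (hZO'.trans h.le))
  have hCZ : G ⊓ centralizer (Z : Set X) = L := hL.centralizer_zSyl_eq hm hn
  have hFL : ∀ u : ℕ, u.Prime → OddOrder.pOf u M ≤ L := fun u hu => by
    rw [← hCZ]
    exact le_inf ((OddOrder.pOf_le M).trans hM.le) (le_centralizer_iff.1 (hZO u hu))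
  have hRL : R ≤ L := hL.syl_le_of_nonab hm hn
  have hNO : G ⊓ normalizer (O : Set X) = M :=
    hM.normalizer_eq hm (OddOrder.pOf_le M) (hm.inv_pOf hM.toIsProper) hOne
      (OddOrder.le_normalizer_pOf M)
  by_cases hex : ∃ u : ℕ, u.Prime ∧ u ≠ r ∧ OddOrder.pOf u M ≠ ⊥
  · obtain ⟨u₀, hu₀, hu₀r, hu₀ne⟩ := hex
    set P := OddOrder.pOf r L with hP
    -- the other parts centralise `O_r(L)`
    have hQP : ∀ u : ℕ, u.Prime → u ≠ r → OddOrder.pOf u M ≤ centralizer (P : Set X) := by
      intro u hu hur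
      haveI := Fact.mk hu
      set Q := OddOrder.pOf u M with hQ
      have hQO : Q ≤ centralizer (O : Set X) := OddOrder.pOf_le_centralizer_pOf hur M
      refine Coprime.le_centralizer_of_pq (OddOrder.isPGroup_pOf M) ?_ (OddOrder.isPGroup_pOf L)
        (le_centralizer_iff.1 hQO) ((hFL r Fact.out).trans (OddOrder.le_normalizer_pOf L))
        ((hFL u hu).trans (OddOrder.le_normalizer_pOf L)) ?_
      · obtain ⟨k, hk⟩ := (OddOrder.isPGroup_pOf M : IsPGroup u Q).exists_card_eq
        rw [hk]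
        exact ((Nat.coprime_primes hu Fact.out).2 hur).pow_left k
      · refine OddOrder.le_centralizer_of_normalize ?_ ?_ ?_
        · exact le_bot_iff.1 ((inf_le_inf_right Q inf_le_left).trans
            (OddOrder.inf_eq_bot_of_pgroup (Ne.symm hur) (OddOrder.isPGroup_pOf L)
              (OddOrder.isPGroup_pOf M)).le)
        · exact ((le_inf ((inf_le_left.trans (OddOrder.pOf_le L)).trans hL.le)
            (inf_le_right.trans (centralizer_le_normalizer _))).trans_eq hNO).trans
            (OddOrder.le_normalizer_pOf (r := u) M)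
        · exact Coprime.le_normalizer_inf_of_le ((hFL u hu).trans (OddOrder.le_normalizer_pOf L))
            (le_normalizer_centralizer' (hQO.trans (centralizer_le_normalizer _)))
    haveI := Fact.mk hu₀
    have hPM : P ≤ M := by
      rw [← hM.normalizer_eq hm (OddOrder.pOf_le M) (hm.inv_pOf hM.toIsProper) hu₀ne
        (OddOrder.le_normalizer_pOf M)]
      exact le_inf ((OddOrder.pOf_le L).trans hL.le)
        ((le_centralizer_iff.1 (hQP u₀ hu₀ hu₀r)).trans (centralizer_le_normalizer _))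
    have hPR : P ≤ M ⊓ R := le_inf hPM (hm.pOf_le_syl hL.toIsProper)
    have hPO : P ≤ O := fun x hx => hm.fittingOf_inf_syl M ⟨hm.mem_fittingOf hM.toIsProper (hPM hx)
      fun u hu => by
        by_cases hur : u = r
        · subst hur; exact hMab.le_centralizer hPR hOMR hx
        · exact le_centralizer_iff.1 (hQP u hu hur) hx, (hPR hx).2⟩
    have hR'O : ⁅R, R⁆ ≤ O := by
      have h1 := hm.commutator_le_pOf (r := r) hL.toIsProper
      rw [← hR, inf_eq_right.2 hRL] at h1
      exact h1.trans hPO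
    have hRM : R ≤ M := by
      rw [← hNO]
      exact le_inf syl_le (le_normalizer_of_commutator_le (hOMR.trans inf_le_right) hR'O)
    refine hn (eq_bot_iff.2 ?_)
    rw [← hR, inf_eq_right.2 hRL]
    rw [AbAt, ← hR, inf_eq_right.2 hRM] at hMab
    exact hMab.le
  · push Not at hex
    have hMO : M ⊓ R ≤ O := fun x hx => hm.fittingOf_inf_syl M ⟨hm.mem_fittingOf hM.toIsProper hx.1
      fun u hu => by
        by_cases hur : u = r
        · subst hur; exact hMab.le_centralizer le_rfl hOMR hx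
        · rw [hex u hu hur, mem_centralizer_iff]
          rintro y hy
          rw [SetLike.mem_coe, mem_bot] at hy
          rw [hy, one_mul, mul_one], hx.2⟩
    have hne' : M ⊓ R ≠ R := fun h => hn (eq_bot_iff.2 (by
      rw [← hR, inf_eq_right.2 hRL]
      rw [AbAt, ← hR, h] at hMab
      exact hMab.le))
    obtain ⟨x, hxR, hxN, hxM⟩ := exists_mem_normalizer_not_mem hm.isPGroup_syl inf_le_right hne'
    rw [le_antisymm hMO hOMR] at hxN
    exact hxM ⟨hNO.le ⟨syl_le hxR, hxN⟩, hxR⟩

end Cfsg.Agent.AbelianCent
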