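import Cfsg.Agent.Lib.AbelianCent.TypeOne

/-!
# Maximal invariant subgroups with all Sylow intersections abelian

`IsTwo A G M`. Such a subgroup cannot exist (`IsMinimal.false_of_isTwo`): every one has a unique line
without fixed points on `F(M)`, and successors lead either to two maximal subgroups centralising the
same element or (`q = 2`) to a factorisation of `G`.
-/

namespace Cfsg.Agent.AbelianCent

open Subgroup
open scoped Pointwise commutatorElement

universe u

variable {X : Type u} [Group X] {A G : Subgroup X} {q r s : ℕ}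

/-- A maximal invariant subgroup with all Sylow intersections abelian. -/
structure IsTwo (A G M : Subgroup X) : Prop extends IsMax A G M where
  ab : ∀ r : ℕ, r.Prime → AbAt A G r M

/-- `L` is a successor of `M`. -/
structure IsSucc (A G M L : Subgroup X) : Prop where
  two : IsTwo A G L
  ne : L ≠ M
  fitting_le : fittingOf M ≤ L
  inf_eq : M ⊓ L = fittingOf M
  le_sup : L ≤ fittingOf L ⊔ fittingOf M

variable [Finite X]

theorem IsTwo.fitting_le_centralizer (hm : IsMinimal A G q) {M : Subgroup X} (hM : IsTwo A G M) :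
    fittingOf M ≤ centralizer (fittingOf M : Set X) := by
  have h : ∀ u : ℕ, u.Prime → fittingOf M ≤ centralizer (OddOrder.pOf u M : Set X) := fun u hu =>
    OddOrder.fittingOf_le_of_forall fun w hw => by
      haveI := Fact.mk hu
      haveI := Fact.mk hw
      by_cases hwu : w = u
      · subst hwu
        exact (hM.ab w hw).le_centralizer
          (le_inf (OddOrder.pOf_le M) (hm.pOf_le_syl hM.toIsProper))
          (le_inf (OddOrder.pOf_le M) (hm.pOf_le_syl hM.toIsProper))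
      · exact OddOrder.pOf_le_centralizer_pOf hwu M
  exact le_centralizer_iff.1 (OddOrder.fittingOf_le_of_forall fun u hu =>
    le_centralizer_iff.1 (h u hu))

theorem IsMinimal.proper_ne_bot (hm : IsMinimal A G q) {M : Subgroup X} (hM : IsMax A G M) :
    M ≠ ⊥ := by
  intro h
  obtain ⟨u, hu, hud⟩ := Nat.exists_prime_and_dvd (n := Nat.card G) fun h1 => hm.not_solvable (by
    rw [card_eq_one] at h1; subst h1; infer_instance)
  haveI := Fact.mk hu
  have hs : IsProper A G (syl A G u) := ⟨syl_le, hm.inv_syl, hm.syl_ne_top⟩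
  have h2 := hM.eq_of_le _ hs (h ▸ bot_le)
  have h3 := hm.pow_dvd_card_inf_syl (r := u) le_rfl hm.inv (k := 1) (by simpa using hud)
  rw [h2, h, inf_bot_eq, card_bot, pow_one] at h3
  exact hu.ne_one (Nat.dvd_one.1 h3)

theorem IsMax.eq_of_fitting_eq (hm : IsMinimal A G q) {M L : Subgroup X} (hM : IsMax A G M)
    (hL : IsMax A G L) (h : fittingOf M = fittingOf L) : M = L := by
  have hne := hm.fitting_ne_bot hM.toIsProper (hm.proper_ne_bot hM)
  have h1 := hM.normalizer_eq hm (OddOrder.fittingOf_le M) (hm.inv_fittingOf hM.toIsProper) hne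
    (OddOrder.le_normalizer_fittingOf M)
  have h2 := hL.normalizer_eq hm (OddOrder.fittingOf_le L) (hm.inv_fittingOf hL.toIsProper)
    (h ▸ hne) (OddOrder.le_normalizer_fittingOf L)
  rw [← h1, ← h2, h]

/-- Two such subgroups meet in `F(M)` once one contains `F(M)`. -/
theorem IsTwo.inf_eq_fitting (hm : IsMinimal A G q) {M L : Subgroup X} (hM : IsTwo A G M)
    (hL : IsTwo A G L) (hne : L ≠ M) (hle : fittingOf M ≤ L) : M ⊓ L = fittingOf M := by
  refine le_antisymm ?_ (le_inf (OddOrder.fittingOf_le M) hle)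
  by_contra hT
  set T := M ⊓ L with hT'
  have hTM : T ≤ M := inf_le_left
  obtain ⟨u, hu, hu'⟩ : ∃ u : ℕ, u.Prime ∧ ¬ T ≤ centralizer (OddOrder.pOf u M : Set X) := by
    by_contra h
    push Not at h
    exact hT fun x hx => hm.mem_fittingOf hM.toIsProper (hTM hx) fun u hu => h u hu hx
  haveI := Fact.mk hu
  set Y := OddOrder.pOf u M with hY
  set W := ⁅Y, T⁆ with hW
  have hWb : W ≠ ⊥ := fun h => hu' (Coprime.le_centralizer_iff_commutator_eq_bot.2 h)
  have hTY : T ≤ normalizer (Y : Set X) := hTM.trans (OddOrder.le_normalizer_pOf M)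
  have hWY : W ≤ Y := Coprime.commutator_le_left_of_le_normalizer hTY
  have hYF : Y ≤ fittingOf M := OddOrder.pOf_le_fittingOf M hu
  have hWA : A ≤ normalizer (W : Set X) := le_normalizer_commutator' (hm.inv_pOf hM.toIsProper)
    (Coprime.le_normalizer_inf_of_le hM.inv hL.inv)
  have hFc := hM.fitting_le_centralizer hm
  have hMW : M ≤ normalizer (W : Set X) := by
    intro m hmM
    refine mem_normalizer_of_forall fun w hw => ?_
    suffices hle' : W ≤ W.comap (MulAut.conj m).toMonoidHom from hle' hw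
    refine commutator_le.2 fun y hy t ht => ?_
    show m * ⁅y, t⁆ * m⁻¹ ∈ W
    have hy' : m * y * m⁻¹ ∈ Y := (mem_normalizer_iff.1 (OddOrder.le_normalizer_pOf M hmM) y).1 hy
    have hf : ⁅m, t⁆ ∈ fittingOf M :=
      hm.commutator_le_fittingOf hM.toIsProper (commutator_mem_commutator hmM (hTM ht))
    have hW' : ⁅m * y * m⁻¹, t⁆ ∈ W := commutator_mem_commutator hy' ht
    have c1 : (m * y * m⁻¹) * ⁅m, t⁆ = ⁅m, t⁆ * (m * y * m⁻¹) :=
      mem_centralizer_iff.1 (hFc hf) _ (hYF hy')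
    have c2 : ⁅m, t⁆ * ⁅m * y * m⁻¹, t⁆ = ⁅m * y * m⁻¹, t⁆ * ⁅m, t⁆ :=
      mem_centralizer_iff.1 (hFc (hYF (hWY hW'))) _ hf
    have e : m * ⁅y, t⁆ * m⁻¹ = ⁅m * y * m⁻¹, t⁆ :=
      calc m * ⁅y, t⁆ * m⁻¹ = (m * y * m⁻¹) * ⁅m, t⁆ * (t * (m * y * m⁻¹)⁻¹ * t⁻¹) * ⁅m, t⁆⁻¹ := by
            simp only [commutatorElement_def]; group
        _ = ⁅m, t⁆ * ⁅m * y * m⁻¹, t⁆ * ⁅m, t⁆⁻¹ := by
            rw [c1]; simp only [commutatorElement_def]; group
        _ = ⁅m * y * m⁻¹, t⁆ := by rw [c2, mul_inv_cancel_right]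
    rw [e]
    exact hW'
  have hWF : W ≤ fittingOf L := (commutator_mono (hYF.trans hle) inf_le_right).trans
    (hm.commutator_le_fittingOf hL.toIsProper)
  have hFL : fittingOf L ≤ M := by
    rw [← hM.normalizer_eq hm (hWY.trans (OddOrder.pOf_le M)) hWA hWb hMW]
    exact le_inf ((OddOrder.fittingOf_le L).trans hL.le)
      (((hL.fitting_le_centralizer hm).trans (centralizer_le hWF)).trans (centralizer_le_normalizer _))
  have hcomm : fittingOf L ≤ centralizer (fittingOf M : Set X) := by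
    refine OddOrder.fittingOf_le_of_forall fun a ha => ?_
    haveI := Fact.mk ha
    refine le_centralizer_iff.1 (OddOrder.fittingOf_le_of_forall fun b hb => ?_)
    haveI := Fact.mk hb
    have hbM : OddOrder.pOf b M ≤ M := OddOrder.pOf_le M
    have haM : OddOrder.pOf a L ≤ M := (OddOrder.pOf_le_fittingOf L ha).trans hFL
    by_cases hab : b = a
    · subst hab
      exact (hM.ab b hb).le_centralizer (le_inf hbM (hm.pOf_le_syl hM.toIsProper))
        (le_inf haM (hm.pOf_le_syl hL.toIsProper))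
    · exact OddOrder.le_centralizer_of_normalize
        (OddOrder.inf_eq_bot_of_pgroup hab (OddOrder.isPGroup_pOf M) (OddOrder.isPGroup_pOf L))
        (((OddOrder.pOf_le_fittingOf M hb).trans hle).trans (OddOrder.le_normalizer_pOf L))
        (haM.trans (OddOrder.le_normalizer_pOf M))
  haveI := hm.solvable M hM.le hM.inv hM.ne
  haveI := hm.solvable L hL.le hL.inv hL.ne
  refine hne (hL.eq_of_fitting_eq hm hM.toIsMax (le_antisymm
    ((le_inf hFL hcomm).trans (OddOrder.inf_centralizer_fittingOf_le M))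
    ((le_inf hle (le_centralizer_iff.1 hcomm)).trans (OddOrder.inf_centralizer_fittingOf_le L))))

/-- A centraliser leaving `M` yields a successor and shows that `O_s(M)` is a full Sylow subgroup. -/
theorem IsTwo.exists_succ (hm : IsMinimal A G q) [Fact s.Prime] {M Y : Subgroup X} (hM : IsTwo A G M)
    (hY : Y ≤ OddOrder.pOf s M) (hYA : A ≤ normalizer (Y : Set X)) (hY1 : Y ≠ ⊥)
    (hnle : ¬ G ⊓ centralizer (Y : Set X) ≤ M) :
    syl A G s ≤ M ∧ ∃ L, IsSucc A G M L ∧ G ⊓ centralizer (Y : Set X) ≤ L := by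
  have hYF : Y ≤ fittingOf M := hY.trans (OddOrder.pOf_le_fittingOf M Fact.out)
  have hYc : Y ≤ centralizer (Y : Set X) :=
    (hYF.trans (hM.fitting_le_centralizer hm)).trans (centralizer_le hYF)
  obtain ⟨L, hL, hle⟩ :=
    hm.exists_max (hm.proper_centralizer ((hY.trans (OddOrder.pOf_le M)).trans hM.le) hYA hY1)
  have hne : L ≠ M := fun h => hnle (h ▸ hle)
  have h2 : IsTwo A G L := ⟨hL, fun r hr => by
    haveI := Fact.mk hr
    by_contra hn
    exact hne (hM.eq_of_centralizer_le hm hL hn hY hYA hY1 hYc hle)⟩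
  have hFL : fittingOf M ≤ L := (le_inf ((OddOrder.fittingOf_le M).trans hM.le)
    ((hM.fitting_le_centralizer hm).trans (centralizer_le hYF))).trans hle
  have hinf := hM.inf_eq_fitting hm h2 hne hFL
  set S := M ⊓ syl A G s with hS
  have hSL : S ≤ L := (le_inf (inf_le_left.trans hM.le) ((hM.ab s Fact.out).le_centralizer le_rfl
    (le_inf (hY.trans (OddOrder.pOf_le M)) (hY.trans (hm.pOf_le_syl hM.toIsProper))))).trans hle
  have hSO : S = OddOrder.pOf s M := le_antisymm
    (fun x hx => hm.fittingOf_inf_syl M ⟨hinf.le ⟨hx.1, hSL hx⟩, hx.2⟩)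
    (le_inf (OddOrder.pOf_le M) (hm.pOf_le_syl hM.toIsProper))
  have hNS : G ⊓ normalizer (S : Set X) = M := by
    rw [hSO]
    exact hM.normalizer_eq hm (OddOrder.pOf_le M) (hm.inv_pOf hM.toIsProper)
      (fun h => hY1 (eq_bot_iff.2 (hY.trans h.le))) (OddOrder.le_normalizer_pOf M)
  have hfull : S = syl A G s := by
    by_contra h
    obtain ⟨x, hxR, hxN, hxS⟩ := exists_mem_normalizer_not_mem hm.isPGroup_syl inf_le_right h
    exact hxS ⟨hNS.le ⟨syl_le hxR, hxN⟩, hxR⟩
  refine ⟨hfull ▸ inf_le_left, L, ⟨h2, hne, hFL, hinf, ?_⟩, hle⟩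
  have hSF : S ≤ fittingOf M := hSO.le.trans (OddOrder.pOf_le_fittingOf M Fact.out)
  have hLS : L ⊓ syl A G s = S := le_antisymm (hfull ▸ inf_le_right) (le_inf hSL inf_le_right)
  have h := hm.le_fitting_sup_normalizer (r := s) h2.toIsProper
  rw [hLS] at h
  refine h.trans (sup_le (sup_le (hSF.trans le_sup_right) le_sup_left) (le_trans ?_ le_sup_right))
  rw [← hinf]
  exact le_inf ((inf_le_inf_right _ hL.le).trans hNS.le) inf_le_left

theorem IsTwo.exists_part (hm : IsMinimal A G q) {M L : Subgroup X} (_hM : IsTwo A G M)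
    (h : fix (fittingOf M) L ≠ ⊥) : ∃ s : ℕ, s.Prime ∧ fix (OddOrder.pOf s M) L ≠ ⊥ := by
  have := hm.card_A
  obtain ⟨s, hs, hsd⟩ := Nat.exists_prime_and_dvd (n := Nat.card (fix (fittingOf M) L))
    fun h1 => h (card_eq_one.1 h1)
  haveI := Fact.mk hs
  obtain ⟨x, hx⟩ := exists_prime_orderOf_dvd_card' s hsd
  refine ⟨s, hs, fun h0 => ?_⟩
  have hx' : (x : X) ∈ fix (OddOrder.pOf s M) L :=
    ⟨OddOrder.mem_pOf x.2.1 (k := 1) (by
      rw [pow_one, ← Subgroup.coe_pow, ← hx, pow_orderOf_eq_one, Subgroup.coe_one]), x.2.2⟩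
  rw [h0, mem_bot] at hx'
  rw [show x = 1 from Subtype.ext hx', orderOf_one] at hx
  exact hs.one_lt.ne hx

theorem IsTwo.exists_succ_of_line (hm : IsMinimal A G q) {M c : Subgroup X} (hM : IsTwo A G M)
    (hc : IsLine A q c) (h : fix (fittingOf M) c ≠ ⊥) (hbad : ¬ fix G c ≤ M) :
    ∃ L, IsSucc A G M L ∧ fix G c ≤ L := by
  obtain ⟨s, hs, hs'⟩ := hM.exists_part hm h
  haveI := Fact.mk hs
  have hG : OddOrder.pOf s M ≤ G := (OddOrder.pOf_le M).trans hM.le
  have hcle : fix G c ≤ G ⊓ centralizer (fix (OddOrder.pOf s M) c : Set X) :=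
    le_inf inf_le_left (hm.fix_le_centralizer le_rfl hG hc)
  obtain ⟨-, L, hL, hle⟩ := hM.exists_succ hm inf_le_left
    (hm.inv_fix (hm.inv_pOf hM.toIsProper) hc.1) hs' fun h => hbad (hcle.trans h)
  exact ⟨L, hL, hcle.trans hle⟩

theorem IsTwo.not_le_fitting (hm : IsMinimal A G q) {M : Subgroup X} (hM : IsTwo A G M) :
    ¬ M ≤ fittingOf M := by
  intro h
  obtain ⟨u, hu, hud⟩ := Nat.exists_prime_and_dvd (n := Nat.card M)
    fun h1 => hm.proper_ne_bot hM.toIsMax (card_eq_one.1 h1)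
  haveI := Fact.mk hu
  set S := M ⊓ syl A G u with hS
  have hS1 : S ≠ ⊥ := fun h0 => by
    have h3 := hm.pow_dvd_card_inf_syl (r := u) hM.le hM.inv (k := 1) (by simpa using hud)
    rw [← hS, h0, card_bot, pow_one] at h3
    exact hu.ne_one (Nat.dvd_one.1 h3)
  have hSO : S = OddOrder.pOf u M := le_antisymm (fun x hx => hm.fittingOf_inf_syl M ⟨h hx.1, hx.2⟩)
    (le_inf (OddOrder.pOf_le M) (hm.pOf_le_syl hM.toIsProper))
  have hNS : G ⊓ normalizer (S : Set X) = M := by
    rw [hSO] at hS1 ⊢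
    exact hM.normalizer_eq hm (OddOrder.pOf_le M) (hm.inv_pOf hM.toIsProper) hS1
      (OddOrder.le_normalizer_pOf M)
  have hfull : S = syl A G u := by
    by_contra h'
    obtain ⟨x, hxR, hxN, hxS⟩ := exists_mem_normalizer_not_mem hm.isPGroup_syl inf_le_right h'
    exact hxS ⟨hNS.le ⟨syl_le hxR, hxN⟩, hxR⟩
  refine hm.not_le_centralizer (r := u) (hfull ▸ hS1) ?_
  rw [← hfull, hNS]
  exact (h.trans (hM.fitting_le_centralizer hm)).trans (centralizer_le (inf_le_left.trans h))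

theorem IsTwo.exists_act (hm : IsMinimal A G q) {M : Subgroup X} (hM : IsTwo A G M) :
    ∃ h, IsLine A q h ∧ ¬ fix M h ≤ fittingOf M := by
  by_contra h
  push Not at h
  exact hM.not_le_fitting hm (hm.le_of_fix_le hM.le hM.inv h)

/-- An acting line gives an action on some `O_v(M)`. -/
theorem IsTwo.exists_action (hm : IsMinimal A G q) {M h : Subgroup X} (hM : IsTwo A G M)
    (hh : IsLine A q h) (hact : ¬ fix M h ≤ fittingOf M) :
    ∃ u v : ℕ, u.Prime ∧ v.Prime ∧ u ≠ v ∧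
      ¬ fix (M ⊓ syl A G u) h ≤ centralizer (OddOrder.pOf v M : Set X) := by
  by_contra hc
  push Not at hc
  refine hact (hm.le_of_syl_le (inf_le_left.trans hM.le) (hm.inv_fix hM.inv hh.1) fun u hu x hx =>
    hm.mem_fittingOf hM.toIsProper hx.1.1 fun v hv => ?_)
  haveI := Fact.mk hu
  haveI := Fact.mk hv
  by_cases huv : u = v
  · subst huv
    exact (hM.ab u hu).le_centralizer le_rfl
      (le_inf (OddOrder.pOf_le M) (hm.pOf_le_syl hM.toIsProper)) ⟨hx.1.1, hx.2⟩
  · exact hc u v hu hv huv ⟨⟨hx.1.1, hx.2⟩, hx.1.2⟩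

theorem IsTwo.fix_fitting_ne_bot (hm : IsMinimal A G q) {M h c : Subgroup X} (hM : IsTwo A G M)
    (hh : IsLine A q h) (hact : ¬ fix M h ≤ fittingOf M) (hc : IsLine A q c) (hne : c ≠ h) :
    fix (fittingOf M) c ≠ ⊥ := by
  obtain ⟨u, v, hu, hv, huv, hnle⟩ := hM.exists_action hm hh hact
  haveI := Fact.mk hu
  haveI := Fact.mk hv
  intro h0
  exact hnle (hm.fix_le_centralizer_of_fix_eq_bot hm.fixA (inf_le_left.trans hM.le)
    (hm.inv_inf_syl hM.inv) ((OddOrder.pOf_le M).trans hM.le) (hm.inv_pOf hM.toIsProper)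
    (OddOrder.isPGroup_pOf M) (inf_le_left.trans (OddOrder.le_normalizer_pOf M))
    (IsPGroup.coprime_card_of_ne u v huv _ _ (hm.isPGroup_inf_syl M) (OddOrder.isPGroup_pOf M))
    hh hc (Ne.symm hne) (eq_bot_iff.2 ((fix_mono (OddOrder.pOf_le_fittingOf M hv)).trans h0.le)))

theorem IsTwo.false_of_good (hm : IsMinimal A G q) {M D : Subgroup X} (hM : IsTwo A G M)
    (hD : IsLine A q D) (hgood : ∀ L, IsLine A q L → L ≠ D → fix G L ≤ M) : False := by
  obtain ⟨h, hh, hact⟩ := hM.exists_act hm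
  obtain ⟨u, v, hu, hv, huv, hnle⟩ := hM.exists_action hm hh hact
  haveI := Fact.mk hu
  haveI := Fact.mk hv
  exact hm.false_of_good huv hM.toIsProper inf_le_left (OddOrder.pOf_le M) (hm.inv_inf_syl hM.inv)
    (hm.inv_pOf hM.toIsProper) (hm.isPGroup_inf_syl M) (OddOrder.isPGroup_pOf M)
    (inf_le_left.trans (OddOrder.le_normalizer_pOf M)) (fun h' => hnle (inf_le_left.trans h')) hD hgood

theorem IsTwo.exists_bad_line (hm : IsMinimal A G q) {M D : Subgroup X} (hM : IsTwo A G M)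
    (hD : IsLine A q D) : ∃ c, IsLine A q c ∧ c ≠ D ∧ ¬ fix G c ≤ M := by
  by_contra h
  push Not at h
  exact hM.false_of_good hm hD h

theorem IsTwo.good_of_act (hm : IsMinimal A G q) {M h : Subgroup X} (hM : IsTwo A G M)
    (hh : IsLine A q h) (hact : ¬ fix M h ≤ fittingOf M) (hne : fix (fittingOf M) h ≠ ⊥) :
    fix G h ≤ M := by
  by_contra hbad
  obtain ⟨L, hL, hle⟩ := hM.exists_succ_of_line hm hh hne hbad
  exact hact fun x hx => hL.inf_eq.le ⟨hx.1, hle ⟨hM.le hx.1, hx.2⟩⟩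

/-- The successor is the centraliser of each nontrivial part of `F(M)` on a line inactive in it. -/
theorem IsSucc.centralizer_eq (hm : IsMinimal A G q) {M L Z : Subgroup X} (hM : IsTwo A G M)
    (hL : IsSucc A G M L) (hZ : Z ≤ fittingOf M) (hZA : A ≤ normalizer (Z : Set X)) (hZ1 : Z ≠ ⊥)
    (hZL : Z ≤ fittingOf L) : G ⊓ centralizer (Z : Set X) = L := by
  refine hL.two.centralizer_eq hm ((hZ.trans (OddOrder.fittingOf_le M)).trans hM.le) hZA hZ1
    (hL.le_sup.trans (sup_le ?_ ?_))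
  · exact (hL.two.fitting_le_centralizer hm).trans (centralizer_le hZL)
  · exact (hM.fitting_le_centralizer hm).trans (centralizer_le hZ)

theorem IsSucc.good_of_inactive (hm : IsMinimal A G q) {M L k : Subgroup X} (hM : IsTwo A G M)
    (hL : IsSucc A G M L) (hk : IsLine A q k) (hne : fix (fittingOf M) k ≠ ⊥)
    (hin : fix L k ≤ fittingOf L) : fix G k ≤ L := by
  rw [← hL.centralizer_eq hm hM inf_le_left (hm.inv_fix (hm.inv_fittingOf hM.toIsProper) hk.1) hne
    ((fix_mono hL.fitting_le).trans hin)]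
  exact le_inf inf_le_left
    (hm.fix_le_centralizer le_rfl ((OddOrder.fittingOf_le M).trans hM.le) hk)

/-- `d` is the missing line of `M`. -/
structure IsMissing (A G : Subgroup X) (q : ℕ) (M d : Subgroup X) : Prop where
  line : IsLine A q d
  fix_eq_bot : fix (fittingOf M) d = ⊥
  ne_bot : ∀ k, IsLine A q k → k ≠ d → fix (fittingOf M) k ≠ ⊥
  inactive : ∀ k, IsLine A q k → k ≠ d → fix M k ≤ fittingOf M

theorem IsTwo.exists_missing (hm : IsMinimal A G q) {M : Subgroup X} (hM : IsTwo A G M) :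
    ∃ d, IsMissing A G q M d := by
  obtain ⟨h₀, hh₀, hact₀⟩ := hM.exists_act hm
  -- no active line has fixed points on `F(M)`
  have key : ∀ h, IsLine A q h → ¬ fix M h ≤ fittingOf M → fix (fittingOf M) h = ⊥ := by
    intro h hh hact
    by_contra hF
    have hall : ∀ k, IsLine A q k → fix (fittingOf M) k ≠ ⊥ := fun k hk => by
      by_cases hkh : k = h
      · exact hkh ▸ hF
      · exact hM.fix_fitting_ne_bot hm hh hact hk hkh
    obtain ⟨c, hc, -, hbad⟩ := hM.exists_bad_line hm hh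
    obtain ⟨L, hL, -⟩ := hM.exists_succ_of_line hm hc (hall c hc) hbad
    obtain ⟨f, hf, hactf⟩ := hL.two.exists_act hm
    refine hL.two.false_of_good hm hf fun k hk hkf => ?_
    by_cases hin : fix L k ≤ fittingOf L
    · exact hL.good_of_inactive hm hM hk (hall k hk) hin
    · exact hL.two.good_of_act hm hk hin (hL.two.fix_fitting_ne_bot hm hf hactf hk hkf)
  refine ⟨h₀, hh₀, key h₀ hh₀ hact₀, fun k hk hne => hM.fix_fitting_ne_bot hm hh₀ hact₀ hk hne, ?_⟩
  intro k hk hne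
  by_contra hk'
  exact hM.fix_fitting_ne_bot hm hh₀ hact₀ hk hne (key k hk hk')

/-- The missing lines of `M` and of a successor: distinct, both bad for the successor, all others good. -/
theorem IsSucc.lines (hm : IsMinimal A G q) {M L d f : Subgroup X} (hM : IsTwo A G M)
    (hL : IsSucc A G M L) (hd : IsMissing A G q M d) (hf : IsMissing A G q L f) :
    d ≠ f ∧ ¬ fix G d ≤ L ∧ ¬ fix G f ≤ L ∧
      ∀ k, IsLine A q k → k ≠ d → k ≠ f → fix G k ≤ L := by
  have good : ∀ k, IsLine A q k → k ≠ d → k ≠ f → fix G k ≤ L := fun k hk hkd hkf =>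
    hL.good_of_inactive hm hM hk (hd.ne_bot k hk hkd) (hf.inactive k hk hkf)
  refine ⟨fun h => hL.two.false_of_good hm hd.line fun k hk hkd => good k hk hkd (h ▸ hkd),
    fun h => hL.two.false_of_good hm hf.line fun k hk hkf => ?_,
    fun h => hL.two.false_of_good hm hd.line fun k hk hkd => ?_, good⟩
  · by_cases hkd : k = d
    · exact hkd ▸ h
    · exact good k hk hkd hkf
  · by_cases hkf : k = f
    · exact hkf ▸ h
    · exact good k hk hkd hkf

/-- For `q = 2`: a Sylow subgroup meeting the good line of a suitable `X` lies in `X`. -/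
theorem IsTwo.syl_le_of_line (hm : IsMinimal A G q) (hq : q = 2) [Fact r.Prime]
    {M x e : Subgroup X} (hM : IsTwo A G M) (hx : IsLine A q x) (he : IsMissing A G q M e)
    (hxe : x ≠ e) (hgood : fix G x ≤ M) (hne : fix (syl A G r) x ≠ ⊥) :
    (syl A G r ≤ centralizer (syl A G r : Set X) → syl A G r ≤ M) ∧
      ∀ Z, Z ≤ fix (syl A G r) x → A ≤ normalizer (Z : Set X) → Z ≠ ⊥ →
        syl A G r ≤ centralizer (Z : Set X) → syl A G r ≤ M := by
  suffices key : ∀ Z, Z ≤ fix (syl A G r) x → A ≤ normalizer (Z : Set X) → Z ≠ ⊥ →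
      syl A G r ≤ centralizer (Z : Set X) → syl A G r ≤ M from
    ⟨fun h => key _ le_rfl (hm.inv_fix hm.inv_syl hx.1) hne (h.trans (centralizer_le inf_le_left)), key⟩
  intro Z hZ hZA hZ1 hRZ
  by_contra hnot
  set Y := OddOrder.pOf r M with hY
  have hYA : A ≤ normalizer (Y : Set X) := hm.inv_pOf hM.toIsProper
  have hYG : Y ≤ G := (OddOrder.pOf_le M).trans hM.le
  have hZY : Z ≤ Y := fun z hz => hm.fittingOf_inf_syl M
    ⟨he.inactive x hx hxe ⟨hgood ⟨syl_le (hZ hz).1, (hZ hz).2⟩, (hZ hz).2⟩, (hZ hz).1⟩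
  -- bad lines have no fixed points on `Y`
  have hbadY : ∀ k, IsLine A q k → ¬ fix G k ≤ M → fix Y k = ⊥ := by
    intro k hk hbad
    by_contra h
    refine hnot (hM.exists_succ hm inf_le_left (hm.inv_fix hYA hk.1) h fun h' => hbad ?_).1
    exact (le_inf inf_le_left (hm.fix_le_centralizer le_rfl hYG hk)).trans h'
  -- the two lines other than `x` are bad
  have hbad : ∀ k, IsLine A q k → k ≠ x → ¬ fix G k ≤ M := by
    intro k hk hkx h
    obtain ⟨j, hj, hjk, hjx⟩ := hm.exists_third hk hx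
    refine hM.false_of_good hm hj fun i hi hij => ?_
    by_cases hix : i = x
    · exact hix ▸ hgood
    · rw [hm.eq_third hq hj hx hk hi hjx (Ne.symm hjk) hkx hij hix]
      exact h
  obtain ⟨k₁, hk₁, hk₁x⟩ := hm.exists_line_ne hx
  obtain ⟨k₂, hk₂, hk₂x, hk₂₁⟩ := hm.exists_third hx hk₁
  have hMY : M ≤ centralizer (Y : Set X) := hm.le_of_syl_le hM.le hM.inv fun u hu => by
    haveI := Fact.mk hu
    by_cases hur : u = r
    · subst hur
      exact (hM.ab u hu).le_centralizer le_rfl (le_inf (OddOrder.pOf_le M) (hm.pOf_le_syl hM.toIsProper))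
    · exact hm.le_centralizer_of_two hm.fixA (inf_le_left.trans hM.le) (hm.inv_inf_syl hM.inv) hYG hYA
        (OddOrder.isPGroup_pOf M) (inf_le_left.trans (OddOrder.le_normalizer_pOf M))
        (IsPGroup.coprime_card_of_ne u r hur _ _ (hm.isPGroup_inf_syl M) (OddOrder.isPGroup_pOf M))
        hk₁ hk₂ (Ne.symm hk₂₁) (hbadY k₁ hk₁ (hbad k₁ hk₁ hk₁x)) (hbadY k₂ hk₂ (hbad k₂ hk₂ hk₂x))
  apply hnot
  rw [← hM.centralizer_eq hm (hZY.trans hYG) hZA hZ1 (hMY.trans (centralizer_le hZY))]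
  exact le_inf syl_le hRZ

theorem IsMinimal.false_of_isTwo (hm : IsMinimal A G q) {M₀ : Subgroup X} (hM₀ : IsTwo A G M₀) :
    False := by
  obtain ⟨d, hd⟩ := hM₀.exists_missing hm
  obtain ⟨c₀, hc₀, hc₀d, hbad₀⟩ := hM₀.exists_bad_line hm hd.line
  obtain ⟨L, hL, -⟩ := hM₀.exists_succ_of_line hm hc₀ (hd.ne_bot c₀ hc₀ hc₀d) hbad₀
  obtain ⟨f, hf⟩ := hL.two.exists_missing hm
  obtain ⟨hdf, hbd, hbf, hgood⟩ := hL.lines hm hM₀ hd hf
  obtain ⟨L₄, hL₄, hd₄⟩ := hL.two.exists_succ_of_line hm hd.line (hf.ne_bot d hd.line hdf) hbd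
  obtain ⟨f₄, hf₄⟩ := hL₄.two.exists_missing hm
  obtain ⟨hff₄, hbf4, hbf₄, hgood₄⟩ := hL₄.lines hm hL.two hf hf₄
  have hdf₄ : d ≠ f₄ := fun h => hbf₄ (h ▸ hd₄)
  by_cases h4 : ∃ k, IsLine A q k ∧ k ≠ d ∧ k ≠ f ∧ k ≠ f₄
  · -- two successors centralising the same element
    obtain ⟨k, hk, hkd, hkf, hkf₄⟩ := h4
    have hZA := hm.inv_fix (hm.inv_fittingOf hM₀.toIsProper) hk.1
    have hZL : fix (fittingOf M₀) k ≤ fittingOf L :=
      (fix_mono hL.fitting_le).trans (hf.inactive k hk hkf)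
    have hZL₄ : fix (fittingOf M₀) k ≤ fittingOf L₄ :=
      (le_inf (hZL.trans hL₄.fitting_le) inf_le_right).trans (hf₄.inactive k hk hkf₄)
    have e1 := hL.centralizer_eq hm hM₀ inf_le_left hZA (hd.ne_bot k hk hkd) hZL
    have e2 := hL₄.centralizer_eq hm hL.two hZL hZA (hd.ne_bot k hk hkd) hZL₄
    exact hL₄.ne (e2.symm.trans e1)
  push Not at h4
  have hq : q = 2 := by
    by_contra hq
    have hq3 : 3 ≤ q := by have := hm.prime.two_le; omega
    obtain ⟨⟨a, ha⟩, ha1⟩ := d.ne_bot_iff_exists_ne_one.1 (hd.line.ne_bot hm.toIsSetting)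
    obtain ⟨⟨b, hb⟩, hb1⟩ := f.ne_bot_iff_exists_ne_one.1 (hf.line.ne_bot hm.toIsSetting)
    have ha1' : a ≠ 1 := fun h => ha1 (Subtype.ext h)
    have hb1' : b ≠ 1 := fun h => hb1 (Subtype.ext h)
    have hb2 : b ^ 2 ≠ 1 := fun h => by
      have h1 := orderOf_dvd_of_pow_eq_one h
      haveI := Fact.mk hm.prime
      rw [orderOf_eq_prime (hm.exp b (hf.line.1 hb)) hb1'] at h1
      have := Nat.le_of_dvd two_pos h1
      omega
    have hbd' : ∀ y ∈ f, y ≠ 1 → y ∉ d := fun y hy hy1 hyd =>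
      hdf (hd.line.eq_of_mem hm.toIsSetting hf.line hyd hy hy1)
    have had : a ∉ f := fun h => hdf (hd.line.eq_of_mem hm.toIsSetting hf.line ha h ha1')
    have mk : ∀ y ∈ f, y ≠ 1 → ∃ k, IsLine A q k ∧ k ≠ d ∧ k ≠ f ∧ a * y ∈ k := by
      intro y hy hy1
      have h1 : a * y ≠ 1 := fun h => had (by rw [eq_inv_of_mul_eq_one_left h]; exact inv_mem hy)
      refine ⟨zpowers (a * y), hm.isLine_zpowers (mul_mem (hd.line.1 ha) (hf.line.1 hy)) h1,
        fun h => hbd' y hy hy1 ?_, fun h => had ?_, mem_zpowers _⟩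
      · have : a * y ∈ d := h ▸ mem_zpowers _
        have := d.mul_mem (d.inv_mem ha) this
        rwa [inv_mul_cancel_left] at this
      · have : a * y ∈ f := h ▸ mem_zpowers _
        have := f.mul_mem this (f.inv_mem hy)
        rwa [mul_inv_cancel_right] at this
    obtain ⟨k₁, hk₁, hk₁d, hk₁f, hm₁⟩ := mk b hb hb1'
    obtain ⟨k₂, hk₂, hk₂d, hk₂f, hm₂⟩ := mk (b ^ 2) (pow_mem hb 2) hb2
    rw [h4 k₁ hk₁ hk₁d hk₁f] at hm₁
    rw [h4 k₂ hk₂ hk₂d hk₂f] at hm₂
    have h3 : b ∈ f₄ := by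
      have := f₄.mul_mem (f₄.inv_mem hm₁) hm₂
      rwa [show (a * b)⁻¹ * (a * b ^ 2) = b by group] at this
    exact hff₄ (hf.line.eq_of_mem hm.toIsSetting hf₄.line hb h3 hb1')
  -- `q = 2`: the lines are `d`, `f`, `f₄`
  have hgc : fix G f₄ ≤ L := hgood f₄ hf₄.line (Ne.symm hdf₄) (Ne.symm hff₄)
  obtain ⟨L₅, hL₅, hf5⟩ :=
    hL₄.two.exists_succ_of_line hm hf.line (hf₄.ne_bot f hf.line hff₄) hbf4
  obtain ⟨f₅, hf₅⟩ := hL₅.two.exists_missing hm
  obtain ⟨-, -, hbf₅, -⟩ := hL₅.lines hm hL₄.two hf₄ hf₅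
  have hff₅ : f ≠ f₅ := fun h => hbf₅ (h ▸ hf5)
  have hall : ∀ k, IsLine A q k → k = d ∨ k = f ∨ k = f₄ := fun k hk => by
    by_cases hkd : k = d
    · exact Or.inl hkd
    by_cases hkf : k = f
    · exact Or.inr (Or.inl hkf)
    exact Or.inr (Or.inr (h4 k hk hkd hkf))
  have hgen : ∀ x, IsLine A q x →
      ∃ N e, IsTwo A G N ∧ IsMissing A G q N e ∧ x ≠ e ∧ fix G x ≤ N := by
    intro x hx
    rcases hall x hx with rfl | rfl | rfl
    · exact ⟨L₄, f₄, hL₄.two, hf₄, hdf₄, hd₄⟩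
    · exact ⟨L₅, f₅, hL₅.two, hf₅, hff₅, hf5⟩
    · exact ⟨L, f, hL.two, hf, Ne.symm hff₄, hgc⟩
  have hRab : ∀ r : ℕ, r.Prime → syl A G r ≤ centralizer (syl A G r : Set X) := by
    intro r hr
    haveI := Fact.mk hr
    set R := syl A G r
    by_contra hR
    set Z := R ⊓ centralizer (R : Set X) with hZ
    have hZA : A ≤ normalizer (Z : Set X) :=
      Coprime.le_normalizer_inf_of_le hm.inv_syl (le_normalizer_centralizer' hm.inv_syl)
    obtain ⟨x, hx, hxne⟩ : ∃ x, IsLine A q x ∧ fix Z x ≠ ⊥ := by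
      by_contra h
      push Not at h
      have hZ1 : Z = ⊥ := eq_bot_iff.2 (hm.le_of_fix_le (inf_le_left.trans syl_le) hZA
        fun L hL => (h L hL).le)
      refine hR ?_
      haveI := (hm.isPGroup_syl (r := r)).isNilpotent
      by_cases hR1 : R = ⊥
      · rw [hR1]; exact bot_le
      haveI := (nontrivial_iff_ne_bot R).2 hR1
      haveI := (hm.isPGroup_syl (r := r)).center_nontrivial
      obtain ⟨z, hz⟩ := exists_ne (1 : center R)
      refine absurd (Subtype.ext (Subtype.ext (mem_bot.1 (hZ1 ▸ ?_)))) hz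
      exact ⟨(z : R).2, mem_centralizer_iff.2 fun y hy =>
        congrArg Subtype.val (mem_center_iff.1 z.2 ⟨y, hy⟩)⟩
    obtain ⟨N, e, hN, he, hxe, hNx⟩ := hgen x hx
    have hne : fix R x ≠ ⊥ := fun h => hxne (eq_bot_iff.2 ((fix_mono inf_le_left).trans h.le))
    have hRN : R ≤ N := (hN.syl_le_of_line hm hq hx he hxe hNx hne).2 _ (fix_mono inf_le_left)
      (hm.inv_fix hZA hx.1) hxne (le_centralizer_iff.1 (inf_le_left.trans inf_le_right))
    exact hR ((hN.ab r hr).le_centralizer (le_inf hRN le_rfl) (le_inf hRN le_rfl))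
  have hcover : ∀ r : ℕ, r.Prime → syl A G r ≤ L ∨ syl A G r ≤ L₄ := by
    intro r hr
    haveI := Fact.mk hr
    by_cases h1 : fix (syl A G r) f₄ = ⊥
    · by_cases h2 : fix (syl A G r) d = ⊥
      · by_cases hR1 : syl A G r = ⊥
        · rw [hR1]; exact Or.inl bot_le
        refine absurd ?_ (hm.not_le_centralizer (r := r) hR1)
        refine hm.le_of_syl_le inf_le_left
          (Coprime.le_normalizer_inf_normalizer hm.inv hm.inv_syl) fun u hu => ?_
        haveI := Fact.mk hu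
        by_cases hur : u = r
        · subst hur; exact inf_le_right.trans (hRab u hu)
        · exact hm.le_centralizer_of_two hm.fixA (inf_le_left.trans inf_le_left)
            (hm.inv_inf_syl (Coprime.le_normalizer_inf_normalizer hm.inv hm.inv_syl)) syl_le hm.inv_syl
            hm.isPGroup_syl (inf_le_left.trans inf_le_right)
            (IsPGroup.coprime_card_of_ne u r hur _ _ (hm.isPGroup_inf_syl _) hm.isPGroup_syl)
            hf₄.line hd.line (Ne.symm hdf₄) h1 h2
      · exact Or.inr ((hL₄.two.syl_le_of_line hm hq hd.line hf₄ hdf₄ hd₄ h2).1 (hRab r hr))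
    · exact Or.inl ((hL.two.syl_le_of_line hm hq hf₄.line hf (Ne.symm hff₄) hgc h1).1 (hRab r hr))
  set Z := fix (fittingOf M₀) f₄ with hZdef
  have hZA : A ≤ normalizer (Z : Set X) := hm.inv_fix (hm.inv_fittingOf hM₀.toIsProper) hf₄.line.1
  have hZne : Z ≠ ⊥ := hd.ne_bot f₄ hf₄.line (Ne.symm hdf₄)
  have hZL : Z ≤ fittingOf L := (fix_mono hL.fitting_le).trans (hf.inactive f₄ hf₄.line (Ne.symm hff₄))
  have hLZ : L ≤ centralizer (Z : Set X) := by
    have e := hL.centralizer_eq hm hM₀ inf_le_left hZA hZne hZL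
    exact e.ge.trans inf_le_right
  refine hm.false_of_product (H := L₄) (K := L) hL₄.two.toIsProper hL.two.le hL.two.inv ?_
    (hZL.trans hL₄.fitting_le) hZA hZne hLZ
  intro r hr
  rcases hcover r hr with h | h
  · rw [mul_comm (Nat.card L₄)]
    exact mul_dvd_mul (card_dvd_of_le h) (card_dvd_of_le (inf_le_left.trans inf_le_left))
  · exact mul_dvd_mul (card_dvd_of_le h) (card_dvd_of_le (inf_le_left.trans inf_le_right))

end Cfsg.Agent.AbelianCent
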